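/-
Weakly closed elementary abelian TI 2-subgroups: points (the conjugates), edges, maximal edges, lines.
-/
import Cfsg.Agent.Timm.TI
import Cfsg.Agent.Inv.Dihedral

set_option autoImplicit false
set_option linter.unusedSectionVars false

open Cfsg Subgroup
open scoped commutatorElement

namespace CL.WTI

open CL.Even CL.Timm CL.Grp

variable {G : Type*} [Group G]

/-- a weakly closed elementary abelian TI 2-subgroup -/
structure W (A : Subgroup G) : Prop extends TI A where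
  wc : ∀ g : G, cj g A ≤ 𝒩(A) → cj g A = A

/-- `B` is a conjugate of `A` (a point) -/
def Pt (A B : Subgroup G) : Prop := ∃ g : G, cj g A = B

/-- the axis `A_B = N_A(B)` -/
abbrev ax (A B : Subgroup G) : Subgroup G := A ⊓ 𝒩(B)

/-- the group `N = A_B B_A` of an edge -/
abbrev nn (A B : Subgroup G) : Subgroup G := ax A B ⊔ ax B A

/-- `B` is a point other than `A` -/
structure Nb (A B : Subgroup G) : Prop extends W A where
  pt : Pt A B
  ne : B ≠ A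

/-- an edge -/
structure Ed (A B : Subgroup G) : Prop extends Nb A B where
  nt : ax A B ≠ ⊥

/-- an edge whose axis has the largest possible order `r`; `|A| = q r` -/
structure Mx (q r : ℕ) (A B : Subgroup G) : Prop extends Ed A B where
  cr : Nat.card (ax A B) = r
  cq : Nat.card A = q * r
  max : ∀ C, Nb A C → Nat.card (ax A C) ≤ r

/-- the line `{A} ∪ F^A` -/
def Ln (A F B : Subgroup G) : Prop := B = A ∨ ∃ a ∈ A, cj a F = B

/-- the line of the edge is invariant under `F` -/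
def Sm (A F : Subgroup G) : Prop := ∀ y ∈ F, Ln A F (cj y A)

variable {A B C E F P X : Subgroup G} {a b c d f g v x y z : G} {q r : ℕ}

theorem mem_norm_cj : g * x * g⁻¹ ∈ 𝒩(cj g B) ↔ x ∈ 𝒩(B) := by
  rw [← cj_norm, mem_cj]; simp [mul_assoc]

theorem mem_cj' : g * x * g⁻¹ ∈ cj g B ↔ x ∈ B := by rw [mem_cj]; simp [mul_assoc]

theorem cj_ax (g : G) (A B : Subgroup G) : cj g (ax A B) = ax (cj g A) (cj g B) := by rw [cj_inf, cj_norm]

theorem cj_nn (g : G) (A B : Subgroup G) : cj g (nn A B) = nn (cj g A) (cj g B) := by rw [cj_sup, cj_ax, cj_ax]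

theorem nn_comm (A B : Subgroup G) : nn A B = nn B A := sup_comm _ _

theorem norm_ax (h1 : g ∈ 𝒩(A)) (h2 : g ∈ 𝒩(B)) : g ∈ 𝒩(ax A B) :=
  cj_eq_iff_mem.1 (by rw [cj_ax, cj_eq h1, cj_eq h2])

theorem norm_nn (h1 : g ∈ 𝒩(A)) (h2 : g ∈ 𝒩(B)) : g ∈ 𝒩(nn A B) :=
  cj_eq_iff_mem.1 (by rw [cj_nn, cj_eq h1, cj_eq h2])

theorem norm_sup (h1 : g ∈ 𝒩(A)) (h2 : g ∈ 𝒩(B)) : g ∈ 𝒩(A ⊔ B) :=
  cj_eq_iff_mem.1 (by rw [cj_sup, cj_eq h1, cj_eq h2])

theorem cj_eq_cj_iff : cj x B = cj y B ↔ y⁻¹ * x ∈ 𝒩(B) := by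
  rw [← cj_eq_iff_mem, cj_mul]
  exact ⟨fun e => by rw [e, cj_inv_cj], fun e => by rw [← cj_cj_inv y (cj x B), e]⟩

/-- counting by fibres -/
theorem card_le_mul_of_fib [Finite G] {K T : Subgroup G} (φ : G → G) (hm : ∀ x ∈ A, φ x ∈ T)
    (hf : ∀ x ∈ A, ∀ y ∈ A, φ x = φ y → x⁻¹ * y ∈ K) : Nat.card A ≤ Nat.card T * Nat.card (A ⊓ K : Subgroup G) := by
  have h : ∀ x : A, ∃ y : A, φ y = φ x := fun x => ⟨x, rfl⟩
  let σ : A → A := fun x => Classical.epsilon fun y : A => φ y = φ x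
  have hσ : ∀ x, φ (σ x) = φ x := fun x => Classical.epsilon_spec (h x)
  rw [← Nat.card_prod]
  refine Nat.card_le_card_of_injective (fun x : A => ((⟨φ x, hm _ x.2⟩ : T),
    (⟨(σ x : G)⁻¹ * x, A.mul_mem (A.inv_mem (σ x).2) x.2, hf _ (σ x).2 _ x.2 (hσ x)⟩ : (A ⊓ K : Subgroup G)))) fun x y e => ?_
  have e1 : φ x = φ y := congrArg (fun t => (t.1 : G)) e
  have e2 : (σ x : G)⁻¹ * x = (σ y : G)⁻¹ * y := congrArg (fun t => (t.2 : G)) e
  have e3 : σ x = σ y := by simp only [σ, e1]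
  rw [e3] at e2
  exact Subtype.ext (mul_left_cancel e2)

/-- a `2`-group acting on `K / K₀ ≠ 1` has a fixed point -/
theorem exists_fix_mod [Finite G] {K K₀ : Subgroup G} (hP : IsPGroup 2 P) (hK : IsPGroup 2 K)
    (hne : ¬ K ≤ K₀) (h1 : P ≤ 𝒩(K)) (h2 : P ≤ 𝒩(K₀)) (h3 : K ≤ 𝒩(K₀)) :
    ∃ x ∈ K, x ∉ K₀ ∧ ∀ p ∈ P, ⁅x, p⁆ ∈ K₀ := by
  have hQ : IsPGroup 2 (P ⊔ K : Subgroup G) := isPGroup_sup hP hK h1
  have hn : P ⊔ K ≤ 𝒩(K₀) := sup_le h2 h3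
  have hn' : P ⊔ K ≤ 𝒩(K) := sup_le h1 le_normalizer
  have := normal_subgroupOf_of_le_normalizer hn
  let π := QuotientGroup.mk' (K₀.subgroupOf (P ⊔ K))
  have e : ∀ z : ↥(P ⊔ K), π z = 1 ↔ (z : G) ∈ K₀ := fun z => QuotientGroup.eq_one_iff z
  have h4 : IsPGroup 2 (⊤ : Subgroup (↥(P ⊔ K) ⧸ K₀.subgroupOf (P ⊔ K))) :=
    (hQ.to_quotient _).to_subgroup _
  have := normal_subgroupOf_of_le_normalizer hn'
  have h5 := inf_cent_ne_bot (U := (K.subgroupOf (P ⊔ K)).map π) (P := ⊤) (h4.to_le le_top) h4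
    (normal_iff_top_le.1 (Normal.map this π (QuotientGroup.mk'_surjective _))) (fun h => hne fun k hk =>
      (e ⟨k, mem_sup_right hk⟩).1 (mem_bot.1 (h ▸ mem_map_of_mem π (show _ ∈ K.subgroupOf _ from hk))))
  obtain ⟨⟨_, ⟨k, hk, rfl⟩, hc⟩, h6⟩ := ne_bot_iff_exists_ne_one.1 h5
  refine ⟨k, hk, fun h => h6 (Subtype.ext ((e k).2 h)), fun p hp => (e ⁅k, ⟨p, mem_sup_left hp⟩⁆).1 ?_⟩
  rw [map_commutatorElement]
  exact cel_eq_one.2 (comm_of_mem hc (mem_top _)).symm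

/-- two involutions with a product of even order -/
theorem dihedral [Finite G] (hx : x * x = 1) (hy : y * y = 1) (he : Even (orderOf (x * y))) :
    ∃ z ∈ zpowers (x * y), z ≠ 1 ∧ z * z = 1 ∧ z * x = x * z ∧ z * y = y * z ∧
      ∃ g ∈ zpowers (x * y), g * x * g⁻¹ = x * z ∨ g * y * g⁻¹ = x * z := by
  obtain ⟨h1, h2, h3⟩ := CL.Inv.half_pow_central hx hy (orderOf_pos _).ne' he
  have i1 := CL.Inv.left_inverts_mul hx hy
  have i2 := CL.Inv.right_inverts_mul hx hy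
  have hy' : y = x * (x * y) := by rw [← mul_assoc, hx, one_mul]
  generalize orderOf (x * y) / 2 = m at h1 h2 h3
  set s := x * y with hs
  refine ⟨s ^ m, npow_mem_zpowers _ _, fun e => by simp [e] at h1, CL.Inv.mul_self_of_orderOf_two h1, h2.eq, h3.eq, ?_⟩
  rcases Nat.even_or_odd' m with ⟨k, rfl | rfl⟩
  · refine ⟨s ^ (-(k : ℤ)), zpow_mem_zpowers _ _, Or.inl ?_⟩
    rw [CL.Inv.zpow_conj_of_inverts i1, ← zpow_natCast]; congr 2; push_cast; ring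
  · refine ⟨s ^ (-(k : ℤ)), zpow_mem_zpowers _ _, Or.inr ?_⟩
    rw [CL.Inv.zpow_conj_of_inverts i2, hy', mul_assoc, ← zpow_one_add, ← zpow_natCast]; congr 2; push_cast; ring

namespace Pt

theorem refl (A : Subgroup G) : Pt A A := ⟨1, cj_one A⟩
theorem of_cj (g : G) (A : Subgroup G) : Pt A (cj g A) := ⟨g, rfl⟩
theorem symm (h : Pt A B) : Pt B A := let ⟨g, e⟩ := h; ⟨g⁻¹, by rw [← e, cj_inv_cj]⟩
theorem trans (h : Pt A B) (h' : Pt B C) : Pt A C :=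
  let ⟨g, e⟩ := h; let ⟨g', e'⟩ := h'; ⟨g' * g, by rw [cj_mul, e, e']⟩
theorem cj_right (h : Pt A B) (g : G) : Pt A (cj g B) := h.trans (of_cj g B)
theorem conj (h : Pt A B) (g : G) : Pt (cj g A) (cj g B) := (of_cj g A).symm.trans (h.cj_right g)
theorem card (h : Pt A B) : Nat.card B = Nat.card A := let ⟨g, e⟩ := h; e ▸ card_cj g A

end Pt

namespace W

variable (h : W A)
include h

theorem conj (g : G) : W (cj g A) where
  toTI := h.toTI.conj g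
  wc x hx := by
    have := h.wc (g⁻¹ * x * g) (by rw [cj_mul, cj_mul, cj_le_iff, inv_inv, cj_norm]; exact hx)
    rw [cj_mul, cj_mul] at this
    rw [← cj_cj_inv g (cj x (cj g A)), this]

theorem of_pt (hB : Pt A B) : W B := let ⟨g, e⟩ := hB; e ▸ h.conj g

theorem isP : IsPGroup 2 A := elem_isP h.elem

theorem le_cent : A ≤ 𝒞(A) := elem_le_cent h.elem

/-- weak closure -/
theorem eq_of_le_norm (hB : Pt A B) (hC : Pt A C) (e : B ≤ 𝒩(C)) : B = C := by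
  obtain ⟨g, rfl⟩ := hC.symm.trans hB
  exact (h.of_pt hC).wc g e

/-- TI -/
theorem eq_of_mem_pt (hB : Pt A B) (hC : Pt A C) (h1 : d ∈ B) (h2 : d ∈ C) (h3 : d ≠ 1) : B = C := by
  obtain ⟨g, rfl⟩ := hB
  obtain ⟨g', rfl⟩ := hC
  exact h.eq_of_mem h1 h2 h3

/-- `C(d) ≤ N(B)` for `1 ≠ d ∈ B` -/
theorem norm_of_comm (hB : Pt A B) (h1 : d ∈ B) (h3 : d ≠ 1) (e : g * d = d * g) : g ∈ 𝒩(B) :=
  (h.of_pt hB).mem_norm_of_comm h1 h3 e

/-- an element of a point centralizing a point lies in it -/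
theorem mem_of_cent (hB : Pt A B) (hC : Pt A C) (h1 : d ∈ C) (h2 : d ∈ 𝒞(B)) : d ∈ B := by
  by_cases h3 : d = 1
  · exact h3 ▸ one_mem _
  · rwa [h.eq_of_le_norm hB hC fun b hb => h.norm_of_comm hC h1 h3 (comm_of_mem h2 hb)]

theorem mem_norm_of_le (hV : E ≤ A) (h1 : E ≠ ⊥) (hg : g ∈ 𝒩(E)) : g ∈ 𝒩(A) := by
  obtain ⟨⟨v, hv⟩, h2⟩ := ne_bot_iff_exists_ne_one.1 h1
  exact h.mem_norm (hV hv) (fun e => h2 (Subtype.ext e)) (hV (conj_mem hg hv))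

variable [Finite G]

/-- a `2`-group containing a point normalizes it -/
theorem le_norm_of_pgroup (hP : IsPGroup 2 P) (hA : A ≤ P) : P ≤ 𝒩(A) := by
  by_contra hn
  have h1 : P ⊓ 𝒩(A) < P := lt_of_le_of_ne inf_le_left fun e => hn (e ▸ inf_le_right)
  obtain ⟨g, hg, hg'⟩ := SetLike.exists_of_lt (lt_inf_normalizer_of_isPGroup hP h1)
  exact hg' ⟨hg.1, cj_eq_iff_mem.1 (h.wc g ((cj_le_of_le (le_inf hA le_normalizer) hg.2).trans inf_le_right))⟩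

theorem eq_of_pgroup (hP : IsPGroup 2 P) (hA : A ≤ P) (hB : Pt A B) (hBP : B ≤ P) : B = A :=
  h.eq_of_le_norm hB (Pt.refl A) (hBP.trans (h.le_norm_of_pgroup hP hA))

/-- a `2`-subgroup of an overgroup `X` of `A` normalizes an `X`-conjugate of `A` -/
theorem exists_norm_cj (hP : IsPGroup 2 P) (hPX : P ≤ X) (hA : A ≤ X) :
    ∃ g ∈ X, P ≤ 𝒩(cj g A) ∧ IsPGroup 2 (P ⊔ cj g A : Subgroup G) := by
  obtain ⟨S, hS, h1⟩ := exists_isSylowIn_ge hP hPX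
  obtain ⟨g, hg, h2⟩ := syl_conj_le hS h.isP hA
  exact ⟨g, hg, h1.trans ((h.conj g).le_norm_of_pgroup hS.isPGroup h2), hS.isPGroup.to_le (sup_le h1 h2)⟩

/-- points inside `X` are conjugate in `X` -/
theorem exists_cj_eq (hB : Pt A B) (hA : A ≤ X) (hBX : B ≤ X) : ∃ g ∈ X, cj g A = B := by
  obtain ⟨g, hg, h1, -⟩ := h.exists_norm_cj (h.of_pt hB).isP hBX hA
  exact ⟨g, hg, (h.eq_of_le_norm hB (Pt.of_cj g A) h1).symm⟩

/-- a Sylow subgroup of `N(A)` is a Sylow subgroup of `G` -/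
theorem exists_syl (hP : IsPGroup 2 P) (hn : P ≤ 𝒩(A)) :
    ∃ S, IsSylowIn 2 S ⊤ ∧ P ≤ S ∧ A ≤ S ∧ S ≤ 𝒩(A) := by
  obtain ⟨S, hS, h1⟩ := exists_isSylowIn_ge (isPGroup_sup hP h.isP hn) le_top
  exact ⟨S, hS, le_sup_left.trans h1, le_sup_right.trans h1, h.le_norm_of_pgroup hS.isPGroup (le_sup_right.trans h1)⟩

/-- an involution fixing only the point `A` -/
theorem mem_norm_of_lonely (ha : a ∈ A) (hl : ∀ E, Pt A E → a ∈ 𝒩(E) → E = A) (hB : Pt A B) (hb : b ∈ B)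
    (he : Even (orderOf (a * b))) : b ∈ 𝒩(A) := by
  obtain ⟨z, -, z1, z2, h1, h2, g, -, h3⟩ := dihedral (h.sq ha) ((h.of_pt hB).sq hb) he
  obtain ⟨E, hE, h4⟩ : ∃ E, Pt A E ∧ a * z ∈ E :=
    h3.elim (fun e => ⟨_, Pt.of_cj g A, e ▸ conj_mem_cj g ha⟩) fun e => ⟨_, hB.cj_right g, e ▸ conj_mem_cj g hb⟩
  have h5 : a * z ∈ A := by
    by_cases h6 : a * z = 1
    · exact h6 ▸ one_mem _
    · rwa [hl E hE (h.norm_of_comm hE h4 h6 (by rw [mul_assoc, h1]))] at h4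
  exact h.mem_norm_of_comm ((mul_mem_cancel_left ha).1 h5) z1 h2.symm

end W

namespace Nb

variable (h : Nb A B)
include h

theorem w' : W B := h.toW.of_pt h.pt
theorem symm : Nb B A := ⟨h.w', h.pt.symm, h.ne.symm⟩
theorem conj (g : G) : Nb (cj g A) (cj g B) := ⟨h.toW.conj g, h.pt.conj g, fun e => h.ne (cj_inj.1 e)⟩
theorem cj_right (hg : g ∈ 𝒩(A)) : Nb A (cj g B) := by simpa only [cj_eq hg] using h.conj g
theorem card_eq' : Nat.card B = Nat.card A := h.pt.card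

theorem eq_one (h1 : d ∈ A) (h2 : d ∈ B) : d = 1 := by
  by_contra h3; exact h.ne (h.eq_of_mem_pt h.pt (Pt.refl A) h2 h1 h3)

theorem inf_eq : A ⊓ B = ⊥ := eq_bot_iff.2 fun _ hd => h.eq_one hd.1 hd.2

theorem comm_ax (ha : a ∈ ax A B) (hb : b ∈ ax B A) : a * b = b * a :=
  cel_eq_one.1 (h.eq_one (cel_mem_left ha.1 hb.2) (cel_mem_right ha.2 hb.1))

/-- `C_A(b) ≤ A_B` -/
theorem norm_of_comm' (hb : b ∈ B) (h1 : b ≠ 1) (e : g * b = b * g) : g ∈ 𝒩(B) := h.norm_of_comm h.pt hb h1 e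

theorem eq_one_of_cel (hx : x ∉ 𝒩(B)) (hb : b ∈ B) (e : ⁅x, b⁆ = 1) : b = 1 := by
  by_contra h1; exact hx (h.norm_of_comm' hb h1 (cel_eq_one.1 e))

theorem not_le : ¬ A ≤ 𝒩(B) := fun e => h.ne (h.eq_of_le_norm (Pt.refl A) h.pt e).symm

theorem exists_not_mem : ∃ x ∈ A, x ∉ 𝒩(B) := SetLike.not_le_iff_exists.1 h.not_le

theorem not_mem_cent (hb : b ∈ B) (h1 : b ≠ 1) : b ∉ 𝒞(A) := fun e =>
  h1 (h.eq_one (h.mem_of_cent (Pt.refl A) h.pt hb e) hb)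

theorem cel_eq (hx : x ∈ A) (hb : b ∈ B) : ⁅x, b⁆ = x * b * x * b := by
  rw [cel_def, h.inv_eq hx, h.w'.inv_eq hb]

/-- `[A, B_A] ≤ A_B` -/
theorem cel_mem (hx : x ∈ A) (hb : b ∈ ax B A) : ⁅x, b⁆ ∈ ax A B := by
  refine ⟨cel_mem_left hx hb.2, ?_⟩
  by_cases h1 : b = 1
  · simp [h1]
  refine h.norm_of_comm' hb.1 h1 ?_
  have e1 := h.comm hx (conj_mem hb.2 hx)
  have e2 := h.w'.sq hb.1
  rw [h.w'.inv_eq hb.1] at e1
  rw [h.cel_eq hx hb.1]
  calc x * b * x * b * b = x * b * x := by rw [mul_assoc, e2, mul_one]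
    _ = b * (b * x * b * x) := by rw [← mul_assoc, ← mul_assoc, ← mul_assoc, e2, one_mul]
    _ = b * (x * b * x * b) := by rw [← e1]; group

theorem cel_mem' (hb : b ∈ ax B A) (hx : x ∈ A) : ⁅b, x⁆ ∈ ax A B :=
  commutatorElement_inv x b ▸ inv_mem (h.cel_mem hx hb)

theorem cel_symm (hx : x ∈ A) (hb : b ∈ 𝒩(A)) : ⁅b, x⁆ = ⁅x, b⁆ := by
  rw [← commutatorElement_inv x b, h.inv_eq (cel_mem_left hx hb)]

theorem cel_mul (hx : x ∈ A) (hb : b ∈ ax B A) (hc : c ∈ ax B A) : ⁅x, b * c⁆ = ⁅x, b⁆ * ⁅x, c⁆ := by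
  rw [cel_mul_right, ← h.comm_ax (h.cel_mem hx hc) hb, mul_inv_cancel_right]

theorem cel_mul' (hx : x ∈ A) (hy : y ∈ A) (hb : b ∈ 𝒩(A)) : ⁅x * y, b⁆ = ⁅x, b⁆ * ⁅y, b⁆ := by
  rw [cel_mul_left, h.comm hx (cel_mem_left hy hb), mul_inv_cancel_right,
    h.comm (cel_mem_left hy hb) (cel_mem_left hx hb)]

theorem cel_ax (hv : v ∈ ax A B) (hb : b ∈ ax B A) : ⁅v, b⁆ = 1 := cel_eq_one.2 (h.comm_ax hv hb)

theorem cel_inj (hx : x ∈ A) (hx' : x ∉ 𝒩(B)) (hb : b ∈ ax B A) (hc : c ∈ ax B A) (e : ⁅x, b⁆ = ⁅x, c⁆) : b = c := by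
  have := h.eq_one_of_cel hx' (mul_mem hb.1 hc.1) (by rw [h.cel_mul hx hb hc, e, h.sq (h.cel_mem hx hc).1])
  rw [← h.w'.inv_eq hc.1, ← inv_eq_of_mul_eq_one_left this]

theorem elem_nn : IsElementaryAbelian 2 (nn A B) :=
  elem_sup (elem_of_le h.elem inf_le_left) (elem_of_le h.w'.elem inf_le_left) fun _ ha =>
    mem_cent_iff.2 fun _ hb => (h.comm_ax ha hb).symm

theorem mem_nn : x ∈ nn A B ↔ ∃ v ∈ ax A B, ∃ f ∈ ax B A, v * f = x :=
  mem_sup_nr (H := ax A B) fun _ ha => norm_ax ha.2 (le_normalizer ha.1)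

theorem nn_le_norm : nn A B ≤ 𝒩(A) := sup_le (inf_le_left.trans le_normalizer) inf_le_right

theorem nn_le : nn A B ≤ A ⊔ B := sup_le_sup inf_le_left inf_le_left

/-- `[A, N] ≤ A_B` -/
theorem cel_nn (hx : x ∈ A) (hn : y ∈ nn A B) : ⁅x, y⁆ ∈ ax A B := by
  obtain ⟨v, hv, f, hf, rfl⟩ := h.mem_nn.1 hn
  rw [cel_mul_right, cel_eq_one.2 (h.comm hx hv.1), one_mul]
  exact conj_mem (le_normalizer hv) (h.cel_mem hx hf)

theorem le_norm_nn : A ≤ 𝒩(nn A B) := le_norm_of_commutator_le (commutator_le.2 fun y hy x hx =>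
  mem_sup_left (commutatorElement_inv x y ▸ inv_mem (h.cel_nn hx hy)))

theorem sup_le_norm_nn : A ⊔ B ≤ 𝒩(nn A B) := sup_le h.le_norm_nn (nn_comm A B ▸ h.symm.le_norm_nn)

theorem mem_ax_of_nn (hx : x ∈ A) (hn : x ∈ nn A B) : x ∈ ax A B := ⟨hx, h.symm.nn_le_norm (nn_comm A B ▸ hn)⟩

theorem inf_nn : A ⊓ nn A B = ax A B :=
  le_antisymm (fun _ hx => h.mem_ax_of_nn hx.1 hx.2) (le_inf inf_le_left le_sup_left)

/-- `N` fixes the points of `⟨A, B⟩` -/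
theorem nn_le_norm_cj (hg : g ∈ A ⊔ B) : nn A B ≤ 𝒩(cj g A) := by
  rw [← cj_norm, ← cj_eq (h.sup_le_norm_nn hg)]; exact cj_mono g h.nn_le_norm

theorem cj_ax_eq (hx : x ∈ A) : ax A (cj x B) = ax A B := by
  rw [← cj_eq (norm_ax (le_normalizer hx) (g := x) (B := A) (le_normalizer hx) |> fun _ =>
    (cent_le_norm _ (cent_mono inf_le_left (h.le_cent hx)) : x ∈ 𝒩(ax A B))), cj_ax, cj_eq (le_normalizer hx)]

variable [Finite G]

theorem card_le : Nat.card (ax B A) ≤ Nat.card (ax A B) := by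
  obtain ⟨x, hx, hx'⟩ := h.exists_not_mem
  exact Nat.card_le_card_of_injective (fun b : ax B A => (⟨⁅x, b⁆, h.cel_mem hx b.2⟩ : ax A B))
    fun b c e => Subtype.ext (h.cel_inj hx hx' b.2 c.2 (congrArg Subtype.val e))

theorem card_eq : Nat.card (ax B A) = Nat.card (ax A B) := h.card_le.antisymm h.symm.card_le

/-- for `x ∈ A - A_B` the map `b ↦ [x, b]` is a bijection `B_A → A_B` -/
theorem exists_cel (hx : x ∈ A) (hx' : x ∉ 𝒩(B)) (hv : v ∈ ax A B) : ∃ b ∈ ax B A, ⁅x, b⁆ = v :=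
  surj_of_inj h.card_eq.ge (fun b => ⁅x, b⁆) (fun _ hb => h.cel_mem hx hb)
    (fun _ hb _ hc => h.cel_inj hx hx' hb hc) hv

theorem card_lt : Nat.card (ax A B) < Nat.card A := card_lt_of_lt inf_le_left fun e => h.not_le (e.trans inf_le_right)

theorem card_nn : Nat.card (nn A B) = Nat.card (ax A B) * Nat.card (ax A B) := by
  refine le_antisymm ((card_sup_le (A := ax A B) fun _ ha => norm_ax ha.2 (le_normalizer ha.1)).trans
    (by rw [h.card_eq])) ?_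
  have := card_mul_le_of_inj (A := ax B A) (K₀ := ax A B) (K := nn A B) le_sup_left id (fun _ hb => mem_sup_right hb)
    fun a ha b hb e => inv_mul_eq_one.1 (h.eq_one e.1 (mul_mem (inv_mem ha.1) hb.1))
  rwa [h.card_eq] at this

theorem exists_cj : ∃ g ∈ A ⊔ B, cj g A = B := h.exists_cj_eq h.pt le_sup_left le_sup_right

/-- a product of even order forces an edge -/
theorem exists_fix (ha : a ∈ A) (hb : b ∈ B) (b1 : b ≠ 1) (he : Even (orderOf (a * b))) :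
    (∃ g ∈ A ⊔ B, cj g A ≠ A ∧ a ∈ 𝒩(cj g A)) ∨ (b ∈ 𝒩(A) ∧ ax A B ≠ ⊥) := by
  obtain ⟨z, -, z1, z2, h1, h2, g, hg, h3⟩ := dihedral (h.sq ha) (h.w'.sq hb) he
  have hg' : g ∈ A ⊔ B := zpowers_le.2 (mul_mem (mem_sup_left ha) (mem_sup_right hb)) hg
  obtain ⟨k, hk, h4⟩ : ∃ k ∈ A ⊔ B, a * z ∈ cj k A := h3.elim (fun e => ⟨g, hg', e ▸ conj_mem_cj g ha⟩) fun e => by
    obtain ⟨k, hk, e'⟩ := h.exists_cj
    exact ⟨g * k, mul_mem hg' hk, by rw [cj_mul, e', ← e]; exact conj_mem_cj g hb⟩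
  by_cases h5 : a * z ∈ A
  · have h6 := (mul_mem_cancel_left ha).1 h5
    exact Or.inr ⟨h.mem_norm_of_comm h6 z1 h2.symm, ne_bot_iff_exists_ne_one.2
      ⟨⟨z, h6, h.norm_of_comm' hb b1 h2⟩, fun e => z1 (congrArg Subtype.val e)⟩⟩
  · exact Or.inl ⟨k, hk, fun e => h5 (e ▸ h4), h.norm_of_comm (Pt.of_cj k A) h4 (fun e => h5 (e ▸ one_mem _))
      (by rw [mul_assoc, h1])⟩

end Nb

/-- LC: neighbours whose parts in `N(A)` generate a `2`-group have comparable axes -/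
theorem Nb.lc [Finite G] (h : Nb A F) (k : Nb A C) (hP : IsPGroup 2 (ax F A ⊔ ax C A : Subgroup G)) :
    ax A F ≤ ax A C ∨ ax A C ≤ ax A F := by
  by_contra! hn
  have hW : ax A F ⊔ ax A C ≤ A := sup_le inf_le_left inf_le_left
  have n1 : ∀ {F C : Subgroup G}, Nb A F → ax F A ≤ 𝒩(ax A F ⊔ ax A C) := fun h =>
    le_norm_of_commutator_le (commutator_le.2 fun _ hx _ hf =>
      mem_sup_left (h.cel_mem ((sup_le inf_le_left inf_le_left : _ ≤ A) hx) hf))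
  have n2 : ∀ {F : Subgroup G} (I : Subgroup G), Nb A F → I ≤ ax A F → ax F A ≤ 𝒩(I) := fun I h hI _ hf =>
    cent_le_norm _ (mem_cent_iff.2 fun _ hv => h.comm_ax (hI hv) hf)
  obtain ⟨w, hw, hw', hc⟩ := exists_fix_mod (K := ax A F ⊔ ax A C) (K₀ := ax A F ⊓ ax A C) hP (h.isP.to_le hW)
    (fun e => hn.1 (le_sup_left.trans (e.trans inf_le_right))) (sup_le (n1 h) (sup_comm (ax A C) _ ▸ n1 k))
    (sup_le (n2 _ h inf_le_left) (n2 _ k inf_le_right))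
    (hW.trans (h.le_cent.trans ((cent_mono (inf_le_left.trans inf_le_left)).trans (cent_le_norm _))))
  by_cases e : w ∈ 𝒩(F)
  · refine hn.2 fun v hv => ?_
    obtain ⟨c, hc', rfl⟩ := k.exists_cel (hW hw) (fun e' => hw' ⟨⟨hW hw, e⟩, hW hw, e'⟩) hv
    exact (hc c (mem_sup_right hc')).1
  · refine hn.1 fun v hv => ?_
    obtain ⟨c, hc', rfl⟩ := h.exists_cel (hW hw) e hv
    exact (hc c (mem_sup_left hc')).2

/-- the `A`-orbit of `F` has `|A : A_F|` members -/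
theorem card_orb [Finite G] (A F : Subgroup G) :
    {B | ∃ a ∈ A, cj a F = B}.ncard * Nat.card (ax A F) = Nat.card A := by
  let φ : A ⧸ (𝒩(F)).subgroupOf A → {B | ∃ a ∈ A, cj a F = B} := Quotient.lift (fun a : A => ⟨cj a F, a, a.2, rfl⟩)
    fun a b e => Subtype.ext (cj_eq_cj_iff.2 (QuotientGroup.leftRel_apply.1 e : _)).symm
  have hφ : Function.Bijective φ := ⟨fun a b => Quotient.inductionOn₂ a b fun a b e =>
    QuotientGroup.eq.2 (cj_eq_cj_iff.1 (congrArg Subtype.val e).symm : _), fun ⟨_, a, ha, e⟩ =>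
      ⟨(⟨a, ha⟩ : A), Subtype.ext e⟩⟩
  rw [← Nat.card_coe_set_eq, ← Nat.card_congr (Equiv.ofBijective φ hφ),
    card_eq_card_quotient_mul_card_subgroup ((𝒩(F)).subgroupOf A), ← inf_subgroupOf_left,
    Nat.card_congr (subgroupOfEquivOfLe inf_le_left).toEquiv]

namespace Ed

variable [Finite G] (h : Ed A B)
include h

theorem symm : Ed B A := ⟨h.toNb.symm, fun e => h.nt (card_eq_one.1 (by rw [← h.card_eq, e, card_bot]))⟩

theorem conj (g : G) : Ed (cj g A) (cj g B) := ⟨h.toNb.conj g, by rw [← cj_ax]; exact mt cj_eq_bot.1 h.nt⟩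

theorem exists_mem : ∃ v ∈ ax A B, v ≠ 1 := (bot_or_exists_ne_one _).resolve_left h.nt

theorem exists_mem' : ∃ f ∈ ax B A, f ≠ 1 := h.symm.exists_mem

omit h in
theorem of_mem (k : Nb A B) (hv : v ∈ A) (hv' : v ∈ 𝒩(B)) (h1 : v ≠ 1) : Ed A B :=
  ⟨k, fun e => h1 (mem_bot.1 (e ▸ (⟨hv, hv'⟩ : v ∈ ax A B)))⟩

theorem card_le_sq : Nat.card A ≤ Nat.card (ax A B) * Nat.card (ax A B) := by
  obtain ⟨b, hb, b1⟩ := h.exists_mem'
  refine card_le_mul_of_fib (fun x => ⁅x, b⁆) (fun x hx => h.cel_mem hx hb) fun x hx y hy e =>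
    h.norm_of_comm' hb.1 b1 (cel_eq_one.1 ?_)
  rw [h.cel_mul' (inv_mem hx) hy hb.2, h.inv_eq hx, e, h.sq (h.cel_mem hy hb).1]

/-- inside `⟨A, B⟩` all axes at `A` coincide -/
theorem ax_eq (hg : g ∈ A ⊔ B) (hne : cj g A ≠ A) : ax A (cj g A) = ax A B := by
  refine le_antisymm (fun x hx => ⟨hx.1, by_contra fun hx' => ?_⟩)
    (le_inf inf_le_left (le_sup_left.trans (h.nn_le_norm_cj hg)))
  obtain ⟨v, hv, v1⟩ := h.exists_mem
  have k : Nb A (cj g A) := ⟨h.toW, Pt.of_cj g A, hne⟩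
  have h1 : g * v * g⁻¹ ∈ cj g A := conj_mem_cj g hv.1
  have h2 : g * v * g⁻¹ ∈ nn A B := conj_mem (h.sup_le_norm_nn hg) (mem_sup_left hv)
  have h3 := k.eq_one (h.cel_nn hx.1 h2).1 (cel_mem_right hx.2 h1)
  obtain ⟨u, hu, f, hf, e⟩ := h.mem_nn.1 h2
  rw [← e, cel_mul_right, cel_eq_one.2 (h.comm hx.1 hu.1), one_mul, mul_inv_eq_one, mul_eq_left] at h3
  rw [h.eq_one_of_cel hx' hf.1 h3, mul_one] at e
  exact v1 (by simpa using k.eq_one (e ▸ hu.1) h1)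

/-- products across an edge, outside `N`, have odd order -/
theorem odd (hx : x ∈ A) (hx' : x ∉ 𝒩(B)) (hy : y ∈ B) (hy' : y ∉ 𝒩(A)) : Odd (orderOf (x * y)) := by
  by_contra he
  rcases h.exists_fix hx hy (fun e => hy' (e ▸ one_mem _)) (Nat.not_odd_iff_even.1 he) with ⟨g, hg, h1, h2⟩ | h1
  · exact hx' ((h.ax_eq hg h1).le ⟨hx, h2⟩).2
  · exact hy' h1.1

theorem exists_mx : ∃ q r F, Mx q r A F := by
  obtain ⟨F, hF, hm⟩ := Set.exists_max_image {C | Nb A C} (fun C => Nat.card (ax A C)) (Set.toFinite _) ⟨B, h.toNb⟩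
  obtain ⟨q, hq⟩ := card_dvd_of_le (inf_le_left : ax A F ≤ A)
  refine ⟨q, _, F, ⟨hF, fun e => h.nt (card_eq_one.1 (le_antisymm ?_ Nat.card_pos))⟩, rfl, by rw [hq, mul_comm], hm⟩
  simpa only [e, card_bot] using hm B h.toNb

end Ed

/-- without edges products from different points are odd -/
theorem Nb.odd [Finite G] (h : Nb A B) (hn : ∀ C, ¬ Ed A C) (ha : a ∈ A) (a1 : a ≠ 1) (hb : b ∈ B) (b1 : b ≠ 1) :
    Odd (orderOf (a * b)) := by
  by_contra he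
  rcases h.exists_fix ha hb b1 (Nat.not_odd_iff_even.1 he) with ⟨g, -, h1, h2⟩ | h1
  · exact hn _ (Ed.of_mem ⟨h.toW, Pt.of_cj g A, h1⟩ ha h2 a1)
  · exact hn _ ⟨h, h1.2⟩

namespace Mx

variable [Finite G] (h : Mx q r A F)
include h

theorem max' (hB : Pt A B) (k : Nb B C) : Nat.card (ax B C) ≤ r := by
  obtain ⟨g, rfl⟩ := hB
  have := h.max _ (by simpa only [cj_inv_cj] using k.conj g⁻¹)
  rwa [← card_cj g, cj_ax, cj_cj_inv] at this

theorem cr' : Nat.card (ax F A) = r := h.card_eq.trans h.cr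

/-- any edge with an axis of order at least `r` is maximal -/
theorem of_card (hB : Pt A B) (k : Nb B C) (e : r ≤ Nat.card (ax B C)) : Mx q r B C :=
  ⟨⟨k, fun e' => h.nt (card_eq_one.1 (le_antisymm (by rw [h.cr]; simpa only [e', card_bot] using e) Nat.card_pos))⟩,
    (h.max' hB k).antisymm e, hB.card.trans h.cq, fun _ k' => h.max' hB k'⟩

theorem symm : Mx q r F A := h.of_card h.pt h.toNb.symm h.cr'.ge

theorem conj (g : G) : Mx q r (cj g A) (cj g F) :=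
  h.of_card (Pt.of_cj g A) (h.toNb.conj g) (by rw [← cj_ax, card_cj, h.cr])

theorem cj_right (hg : g ∈ 𝒩(A)) : Mx q r A (cj g F) := by simpa only [cj_eq hg] using h.conj g

theorem exists_at (hB : Pt A B) : ∃ C, Mx q r B C := let ⟨g, e⟩ := hB; ⟨_, e ▸ h.conj g⟩

theorem of_le (k : Nb A C) (e : ax A F ≤ 𝒩(C)) : Mx q r A C ∧ ax A C = ax A F :=
  have e' : ax A F ≤ ax A C := le_inf inf_le_left e
  ⟨h.of_card (Pt.refl A) k (h.cr ▸ card_le_of_le e'), (eq_of_le_of_card_ge e' (h.cr ▸ h.max C k)).symm⟩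

/-- a point fixed by more than an axis is `A` -/
theorem eq_of_lt (hB : Pt A B) (e : ax A F ≤ 𝒩(B)) (hx : x ∈ A) (hx' : x ∉ 𝒩(F)) (e' : x ∈ 𝒩(B)) : B = A := by
  by_contra hne
  exact hx' ((h.of_le ⟨h.toW, hB, hne⟩ e).2.le ⟨hx, e'⟩).2

theorem ax_eq_of_le (k : Mx q r A C) (e : ax A F ≤ ax A C) : ax A F = ax A C :=
  eq_of_le_of_card_ge e (k.cr.trans h.cr.symm).le

theorem lc (k : Mx q r A C) (hP : IsPGroup 2 (ax F A ⊔ ax C A : Subgroup G)) : ax A F = ax A C :=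
  (h.toNb.lc k.toNb hP).elim (h.ax_eq_of_le k) fun e => (k.ax_eq_of_le h e).symm

theorem two_le_r : 2 ≤ r := h.cr ▸ (one_lt_card_iff_ne_bot _).2 h.nt

theorem two_le_q : 2 ≤ q := by
  have h1 := h.card_lt
  rw [h.cr, h.cq] at h1
  by_contra h2
  interval_cases q <;> omega

theorem q_le_r : q ≤ r := by
  have h1 := h.card_le_sq
  rw [h.cr, h.cq] at h1
  exact Nat.le_of_mul_le_mul_right h1 (by have := h.two_le_r; omega)

theorem pow_r : ∃ n, r = 2 ^ n := h.cr ▸ (h.isP.to_le inf_le_left).exists_card_eq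

theorem pow_q : ∃ n, q = 2 ^ n := by
  obtain ⟨m, hm⟩ := h.isP.exists_card_eq
  obtain ⟨n, -, hn⟩ := (Nat.dvd_prime_pow Nat.prime_two).1 (hm ▸ Dvd.intro _ h.cq.symm)
  exact ⟨n, hn⟩

theorem unique {q' r' : ℕ} (k : Mx q' r' A C) : q' = q ∧ r' = r := by
  have e : r' = r := (k.cr ▸ h.max C k.toNb).antisymm (h.cr ▸ k.max F h.toNb)
  exact ⟨Nat.eq_of_mul_eq_mul_right (m := r) (by have := h.two_le_r; omega) (by rw [← h.cq, k.cq, e]), e⟩

theorem card_nn' : Nat.card (nn A F) = r * r := by rw [h.card_nn, h.cr]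

theorem card_orb' : {B | ∃ a ∈ A, cj a F = B}.ncard = q :=
  Nat.eq_of_mul_eq_mul_right (m := r) (by have := h.two_le_r; omega) (by rw [← h.cq, ← card_orb A F, h.cr])

end Mx

namespace Ln

theorem left (A F : Subgroup G) : Ln A F A := Or.inl rfl
theorem right (A F : Subgroup G) : Ln A F F := Or.inr ⟨1, one_mem _, cj_one F⟩
theorem le (l : Ln A F B) : B ≤ A ⊔ F :=
  l.elim (fun e => e ▸ le_sup_left) fun ⟨_, ha, e⟩ => e ▸ cj_le_of_mem le_sup_right (mem_sup_left ha)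
theorem pt (l : Ln A F B) (hF : Pt A F) : Pt A B := l.elim (fun e => e ▸ Pt.refl _) fun ⟨a, _, e⟩ => e ▸ hF.cj_right a
theorem conj (l : Ln A F B) (g : G) : Ln (cj g A) (cj g F) (cj g B) := l.imp (congrArg _) fun ⟨a, ha, e⟩ =>
  ⟨_, conj_mem_cj g ha, by rw [← e, ← cj_mul, ← cj_mul, inv_mul_cancel_right]⟩
theorem cj_of_norm (l : Ln A F B) (h1 : g ∈ 𝒩(A)) (h2 : g ∈ 𝒩(F)) : Ln A F (cj g B) := by
  simpa only [cj_eq h1, cj_eq h2] using l.conj g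
theorem cj_left (l : Ln A F B) (ha : a ∈ A) : Ln A F (cj a B) :=
  l.imp (fun e : B = A => by rw [e, cj_eq (le_normalizer ha)]) fun ⟨b, hb, e⟩ => ⟨a * b, mul_mem ha hb, by rw [cj_mul, e]⟩
theorem trans (l : Ln A F B) (l' : Ln A B C) : Ln A F C := l'.elim Or.inl fun ⟨_, ha, e⟩ => e ▸ l.cj_left ha
theorem symm' (l : Ln A F B) (hne : B ≠ A) : Ln A B F := by
  obtain ⟨a, ha, rfl⟩ := l.resolve_left hne
  exact Or.inr ⟨a⁻¹, inv_mem ha, cj_inv_cj a F⟩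

theorem nb (l : Ln A F B) (h : Nb A F) (hne : B ≠ A) : Nb A B ∧ ax A B = ax A F ∧ nn A B = nn A F ∧ A ⊔ B = A ⊔ F := by
  have l' := l.symm' hne
  obtain ⟨a, ha, rfl⟩ := l.resolve_left hne
  refine ⟨h.cj_right (le_normalizer ha), h.cj_ax_eq ha, ?_, le_antisymm (sup_le le_sup_left l.le) (sup_le le_sup_left l'.le)⟩
  rw [← cj_eq (h.le_norm_nn ha), cj_nn, cj_eq (le_normalizer ha)]

theorem mx [Finite G] (l : Ln A F B) (h : Mx q r A F) (hne : B ≠ A) : Mx q r A B := by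
  obtain ⟨a, ha, rfl⟩ := l.resolve_left hne
  exact h.cj_right (le_normalizer ha)

end Ln

namespace Sm

theorem conj (s : Sm A F) (g : G) : Sm (cj g A) (cj g F) := fun y hy => by
  have := (s _ (mem_cj.1 hy)).conj g
  rwa [← cj_mul, ← mul_assoc, ← mul_assoc, mul_inv_cancel, one_mul, cj_mul] at this

variable [Finite G] (s : Sm A F) (h : Nb A F)
include s h

theorem ln_iff : Ln F A B ↔ Ln A F B := by
  have h1 : insert F {B | ∃ y ∈ F, cj y A = B} ⊆ insert A {B | ∃ a ∈ A, cj a F = B} := by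
    rintro B (rfl | ⟨y, hy, rfl⟩)
    exacts [Ln.right A B, s y hy]
  have n : ∀ {A F : Subgroup G}, Nb A F → A ∉ {B | ∃ a ∈ A, cj a F = B} := fun {A F} h ⟨a, ha, e⟩ =>
    h.ne (cj_inj.1 (e.trans (cj_eq (le_normalizer ha)).symm))
  have h2 := Set.eq_of_subset_of_ncard_le h1 (by
    rw [Set.ncard_insert_of_notMem (n h), Set.ncard_insert_of_notMem (n h.symm)]
    refine Nat.succ_le_succ (Nat.le_of_mul_le_mul_right ?_ (Nat.card_pos (α := ax A F)))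
    rw [card_orb, ← h.card_eq, card_orb, h.card_eq'])
  exact Set.ext_iff.1 h2 B

theorem symm : Sm F A := fun _ ha => (s.ln_iff h).2 ((Ln.right A F).cj_left ha)

/-- `⟨A, F⟩` acts on the line -/
theorem cj_ln (hg : g ∈ A ⊔ F) (l : Ln A F B) : Ln A F (cj g B) := by
  rw [sup_eq_closure] at hg
  induction hg using closure_induction_left with
  | one => rwa [cj_one]
  | mul_left x hx y _ ih =>
    rw [cj_mul]
    exact hx.elim ih.cj_left fun hx => (s.ln_iff h).1 (((s.ln_iff h).2 ih).cj_left hx)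
  | inv_mul_cancel x hx y _ ih =>
    rw [cj_mul]
    exact hx.elim (fun hx => ih.cj_left (inv_mem hx)) fun hx => (s.ln_iff h).1 (((s.ln_iff h).2 ih).cj_left (inv_mem hx))

/-- `⟨A, F⟩` is doubly transitive on the line -/
theorem exists_cj₂ (l : Ln A F B) (l' : Ln A F C) (hne : C ≠ B) : ∃ g ∈ A ⊔ F, cj g A = B ∧ cj g F = C := by
  obtain ⟨g, hg, rfl⟩ := h.exists_cj_eq (l.pt h.pt) le_sup_left l.le
  obtain ⟨a, ha, e⟩ := (s.cj_ln h (inv_mem hg) l').resolve_left fun e => hne (by rw [← e, cj_cj_inv])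
  exact ⟨g * a, mul_mem hg (mem_sup_left ha), by rw [cj_mul, cj_eq (le_normalizer ha)], by rw [cj_mul, e, cj_cj_inv]⟩

/-- two points of a line determine it -/
theorem of_ln (l : Ln A F B) (l' : Ln A F C) (hne : C ≠ B) :
    Nb B C ∧ Sm B C ∧ nn B C = nn A F ∧ B ⊔ C = A ⊔ F ∧ ∀ E, Ln B C E ↔ Ln A F E := by
  obtain ⟨g, hg, rfl, rfl⟩ := s.exists_cj₂ h l l' hne
  refine ⟨h.conj g, s.conj g, by rw [← cj_nn, cj_eq (h.sup_le_norm_nn hg)], by rw [← cj_sup, cj_eq (le_normalizer hg)],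
    fun E => ⟨fun e => ?_, fun e => ?_⟩⟩
  · have := e.conj g⁻¹
    rw [cj_inv_cj, cj_inv_cj] at this
    simpa only [cj_cj_inv] using s.cj_ln h hg this
  · simpa only [cj_cj_inv] using (s.cj_ln h (inv_mem hg) e).conj g

omit h in
theorem mx_of_ln (m : Mx q r A F) (l : Ln A F B) (l' : Ln A F C) (hne : C ≠ B) : Mx q r B C := by
  obtain ⟨g, -, rfl, rfl⟩ := s.exists_cj₂ m.toNb l l' hne
  exact m.conj g

/-- for `x ∈ A - A_F` some `y ∈ F` has `F^x = A^y`; then `x y x` swaps `A` and `F` -/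
theorem exists_swap (hx : x ∈ A) (hx' : x ∉ 𝒩(F)) : ∃ y ∈ F, y ∉ 𝒩(A) ∧ cj y A = cj x F := by
  obtain ⟨y, hy, e⟩ := ((s.ln_iff h).2 ((Ln.right A F).cj_left hx)).resolve_left fun e => hx' (cj_eq_iff_mem.1 e)
  exact ⟨y, hy, fun e' => h.ne (cj_inj.1 ((e.symm.trans (cj_eq e')).trans (cj_eq (le_normalizer hx)).symm)), e⟩

end Sm

/-! ### subgroups and quotients -/

section map

variable {H : Type*} [Group H] {π : G →* H}

theorem map_cj' (π : G →* H) (g : G) (A : Subgroup G) : (cj g A).map π = cj (π g) (A.map π) := by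
  rw [map_map, map_map]; congr 1; ext x; simp

theorem Pt.ker_le (hB : Pt A B) (hk : π.ker ≤ 𝒩(A)) : π.ker ≤ 𝒩(B) := by
  obtain ⟨g, rfl⟩ := hB
  rw [← cj_norm, ← cj_eq (normal_iff_top_le.1 π.normal_ker (mem_top g))]
  exact cj_mono g hk

theorem le_sup_ker (e : B.map π ≤ C.map π) : B ≤ C ⊔ π.ker := by
  rw [← comap_map_eq]; exact map_le_iff_le_comap.1 e

theorem W.map_inj (h : W A) (hk : π.ker ≤ 𝒩(A)) (hB : Pt A B) (hC : Pt A C) (e : B.map π = C.map π) : B = C :=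
  h.eq_of_le_norm hB hC ((le_sup_ker e.le).trans (sup_le le_normalizer (hC.ker_le hk)))

theorem W.mem_norm_map (h : W A) (hk : π.ker ≤ 𝒩(A)) (hB : Pt A B) : π x ∈ 𝒩(B.map π) ↔ x ∈ 𝒩(B) := by
  rw [← cj_eq_iff_mem, ← cj_eq_iff_mem, ← map_cj']
  exact ⟨h.map_inj hk (hB.cj_right x) hB, congrArg _⟩

theorem W.map_ax (h : W A) (hk : π.ker ≤ 𝒩(A)) (hC : Pt A C) (B : Subgroup G) :
    (ax B C).map π = ax (B.map π) (C.map π) := le_antisymm
  (map_le_iff_le_comap.2 fun _ hx => ⟨mem_map_of_mem π hx.1, (h.mem_norm_map hk hC).2 hx.2⟩)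
  fun _ ⟨⟨x, hx, e⟩, h2⟩ => ⟨x, ⟨hx, (h.mem_norm_map hk hC).1 (e ▸ h2)⟩, e⟩

theorem Pt.map (hB : Pt A B) (π : G →* H) : Pt (A.map π) (B.map π) :=
  let ⟨g, e⟩ := hB; ⟨π g, by rw [← map_cj', e]⟩

theorem Pt.exists_map (hs : Function.Surjective π) {B' : Subgroup H} (hB : Pt (A.map π) B') :
    ∃ B, Pt A B ∧ B.map π = B' := by
  obtain ⟨g, rfl⟩ := hB
  obtain ⟨g, rfl⟩ := hs g
  exact ⟨_, Pt.of_cj g A, map_cj' π g A⟩

/-- QUO: the image modulo a normal subgroup fixing the points -/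
theorem W.map [Finite G] (h : W A) (hs : Function.Surjective π) (hk : π.ker ≤ 𝒩(A)) : W (A.map π) where
  elem := elem_map _ h.elem
  wc g e := by
    obtain ⟨g, rfl⟩ := hs g
    rw [← map_cj'] at e ⊢
    rw [h.wc g fun x hx => (h.mem_norm_map hk (Pt.refl A)).1 (e (mem_map_of_mem π hx))]
  ti g := by
    obtain ⟨g, rfl⟩ := hs g
    rw [← map_cj']
    by_cases hne : cj g A = A
    · exact Or.inl (by rw [hne])
    refine Or.inr (eq_bot_iff.2 ?_)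
    rintro _ ⟨⟨b, hb, rfl⟩, a, ha, e⟩
    have k : Nb A (cj g A) := ⟨h, Pt.of_cj g A, hne⟩
    obtain ⟨x, hx, hx'⟩ := k.exists_not_mem
    have e1 : a⁻¹ * b ∈ π.ker := by simp [e]
    have hb' : b ∈ ax (cj g A) A := ⟨hb, by simpa using mul_mem (le_normalizer ha) (hk e1)⟩
    have ck : ∀ {y}, y ∈ π.ker → ⁅x, y⁆ ∈ π.ker := fun hy => cel_mem_right (normal_iff_top_le.1 π.normal_ker (mem_top x)) hy
    obtain ⟨c, hc, e2⟩ := surj_of_inj (A := cj g A ⊓ π.ker) (B := A ⊓ π.ker)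
      (by rw [← card_cj g, cj_inf, cj_eq (normal_iff_top_le.1 π.normal_ker (mem_top g))]) (fun c => ⁅x, c⁆)
      (fun c hc => ⟨(k.cel_mem hx ⟨hc.1, hk hc.2⟩).1, ck hc.2⟩)
      (fun c hc d hd => k.cel_inj hx hx' ⟨hc.1, hk hc.2⟩ ⟨hd.1, hk hd.2⟩) (b := ⁅x, b⁆) ⟨(k.cel_mem hx hb').1, by
        have := ck e1
        rwa [cel_mul_right, cel_eq_one.2 (h.comm hx (inv_mem ha)), one_mul,
          ← h.comm (cel_mem_left hx hb'.2) (inv_mem ha), mul_inv_cancel_right] at this⟩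
    rw [← k.cel_inj hx hx' ⟨hc.1, hk hc.2⟩ hb' e2]
    exact hc.2

theorem Nb.map [Finite G] (h : Nb A B) (hs : Function.Surjective π) (hk : π.ker ≤ 𝒩(A)) : Nb (A.map π) (B.map π) :=
  ⟨h.toW.map hs hk, h.pt.map π, fun e => h.ne (h.map_inj hk h.pt (Pt.refl A) e)⟩

end map

theorem cj_subgroupOf (g : X) (A : Subgroup G) : cj g (A.subgroupOf X) = (cj (g : G) A).subgroupOf X := by
  ext x; simp only [mem_cj, mem_subgroupOf]; rfl

theorem subgroupOf_inj' (hA : A ≤ X) (hB : B ≤ X) : A.subgroupOf X = B.subgroupOf X ↔ A = B := by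
  rw [subgroupOf_inj, inf_eq_left.2 hA, inf_eq_left.2 hB]

theorem mem_norm_subgroupOf (hB : B ≤ X) {x : X} : x ∈ 𝒩(B.subgroupOf X) ↔ (x : G) ∈ 𝒩(B) := by
  rw [← cj_eq_iff_mem, ← cj_eq_iff_mem, cj_subgroupOf, subgroupOf_inj' (cj_le_of_mem hB x.2) hB]

theorem ax_subgroupOf (hB : B ≤ X) (A : Subgroup G) : ax (A.subgroupOf X) (B.subgroupOf X) = (ax A B).subgroupOf X := by
  ext x; simp only [mem_inf, mem_subgroupOf, mem_norm_subgroupOf hB]

theorem pt_subgroupOf {B' : Subgroup X} : Pt (A.subgroupOf X) B' ↔ ∃ g ∈ X, (cj g A).subgroupOf X = B' :=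
  ⟨fun ⟨g, e⟩ => ⟨g, g.2, by rw [← cj_subgroupOf, e]⟩, fun ⟨g, hg, e⟩ => ⟨⟨g, hg⟩, by rw [cj_subgroupOf, e]⟩⟩

/-- SUB: restriction to an overgroup -/
theorem W.subgroupOf (h : W A) (hA : A ≤ X) : W (A.subgroupOf X) where
  elem := elem_subgroupOf h.elem X
  wc g e := by
    rw [cj_subgroupOf] at e ⊢
    rw [h.wc g fun x hx => (mem_norm_subgroupOf hA (x := ⟨x, cj_le_of_mem hA g.2 hx⟩)).1 (e hx)]
  ti g := by
    rw [cj_subgroupOf]
    exact (h.ti g).imp (fun e => by rw [e]) fun e => eq_bot_iff.2 fun x hx =>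
      Subtype.ext (mem_bot.1 (e.le ⟨hx.1, hx.2⟩))

theorem Nb.subgroupOf [Finite G] (h : Nb A B) (hA : A ≤ X) (hB : B ≤ X) : Nb (A.subgroupOf X) (B.subgroupOf X) := by
  obtain ⟨g, hg, e⟩ := h.exists_cj_eq h.pt hA hB
  exact ⟨h.toW.subgroupOf hA, pt_subgroupOf.2 ⟨g, hg, by rw [e]⟩, fun e => h.ne ((subgroupOf_inj' hB hA).1 e)⟩

end CL.WTI
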