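/-
Weakly closed TI-subgroups: the group `op A V` acting trivially on `V` and `A / V`, swaps, covering by axes,
minimal pairs of axes, triangles, the global properties.
-/
import Cfsg.Agent.Timm.W0

set_option autoImplicit false
set_option linter.unusedSectionVars false

open Cfsg Subgroup
open scoped commutatorElement

namespace CL.WTI

open CL.Even CL.Timm CL.Grp

variable {G : Type*} [Group G] {A B C E F F' P V X : Subgroup G} {a b c d f g h k t v w x y z : G} {q r : ℕ}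

/-- conjugation of a commutator by an element acting trivially on `A / A_F` -/
theorem Nb.cel_conj (e : Nb A F) (hx : x ∈ A) (hf : f ∈ ax F A) (h1 : g ∈ 𝒩(A)) (h2 : g ∈ 𝒩(F))
    (h3 : ⁅x, g⁆ ∈ ax A F) : g * ⁅x, f⁆ * g⁻¹ = ⁅x, g * f * g⁻¹⁆ := by
  have e1 : g * x * g⁻¹ = ⁅x, g⁆⁻¹ * x := by simp only [cel_def]; group
  have hf' : g * f * g⁻¹ ∈ ax F A := conj_mem (norm_ax h2 h1) hf
  rw [CL.Timm.cel_conj g x f, e1, e.cel_mul' (A.inv_mem h3.1) hx hf'.2, e.cel_ax (inv_mem h3) hf', one_mul]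

/-- the elements of `N(A)` acting trivially on `V` and on `A / V` -/
def op (A V : Subgroup G) : Subgroup G := 𝒩(A) ⊓ 𝒞(V) ⊓ cmod A V

theorem mem_op : g ∈ op A V ↔ g ∈ 𝒩(A) ∧ g ∈ 𝒞(V) ∧ ∀ x ∈ A, ⁅x, g⁆ ∈ V :=
  ⟨fun h => ⟨h.1.1, h.1.2, h.2.2⟩, fun h => ⟨⟨h.1, h.2.1⟩, cent_le_norm _ h.2.1, h.2.2⟩⟩

theorem op_le_norm : op A V ≤ 𝒩(A) := fun _ h => h.1.1
theorem op_le_cent : op A V ≤ 𝒞(V) := fun _ h => h.1.2

theorem norm_op (h1 : X ≤ 𝒩(A)) (h2 : X ≤ 𝒩(V)) : X ≤ 𝒩(op A V) :=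
  le_norm_inf (le_norm_inf (le_norm_of_le h1) (le_norm_cent h2)) (le_norm_cmod h1 h2)

theorem cent_le_op (hV : V ≤ A) : 𝒞(A) ≤ op A V := fun _ hz => mem_op.2
  ⟨cent_le_norm _ hz, cent_mono hV hz, fun _ hx => cel_eq_one.2 (comm_of_mem hz hx) ▸ one_mem _⟩

theorem op_cel_mul (h1 : g ∈ op A V) (h2 : k ∈ op A V) (hx : x ∈ A) : ⁅x, g * k⁆ = ⁅x, g⁆ * ⁅x, k⁆ := by
  rw [cel_mul_right, conj_eq_of_mem (op_le_cent h1) ((mem_op.1 h2).2.2 x hx)]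

theorem W.op_sq (e : W A) (hV : V ≤ A) (h1 : g ∈ op A V) : g * g ∈ 𝒞(A) := mem_cent_iff.2 fun x hx =>
  cel_eq_one.1 (by rw [op_cel_mul h1 h1 hx, e.sq (hV ((mem_op.1 h1).2.2 x hx))])

theorem W.op_cel (e : W A) (hV : V ≤ A) (h1 : g ∈ op A V) (h2 : k ∈ op A V) : ⁅g, k⁆ ∈ 𝒞(A) := by
  have : ⁅g, k⁆ = g * k * (g * k) * (k⁻¹ * (g⁻¹ * g⁻¹) * k⁻¹⁻¹ * (k⁻¹ * k⁻¹)) := by simp only [cel_def]; group
  rw [this]
  exact mul_mem (e.op_sq hV (mul_mem h1 h2)) (mul_mem (conj_mem (norm_le_norm_cent _ (inv_mem (op_le_norm h2)))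
    (e.op_sq hV (inv_mem h1))) (e.op_sq hV (inv_mem h2)))

/-- `op A V = S C(A)` for a Sylow subgroup `S` -/
theorem W.op_eq [Finite G] (e : W A) (hV : V ≤ A) {S : Subgroup G} (hS : IsSylowIn 2 S (op A V)) (hg : g ∈ op A V) :
    ∃ s ∈ S, ∃ z ∈ 𝒞(A), s * z = g := by
  obtain ⟨s, hs, u, hu, e'⟩ := exists_syl_mul_res hS hg
  exact ⟨s, hs, u, res_le_of_pow (fun x hx => ⟨1, by rw [pow_one, sq]; exact e.op_sq hV hx⟩) hu, e'⟩

/-- a `2`-subgroup of `op A V` is moved into a Sylow subgroup by an element of `C(A)` -/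
theorem W.exists_cent_cj [Finite G] (e : W A) (hV : V ≤ A) {S : Subgroup G} (hS : IsSylowIn 2 S (op A V))
    (hP : IsPGroup 2 P) (h1 : P ≤ op A V) : ∃ z ∈ 𝒞(A), cj z P ≤ S := by
  obtain ⟨g, hg, h2⟩ := syl_conj_le hS hP h1
  obtain ⟨s, hs, z, hz, rfl⟩ := e.op_eq hV hS hg
  rw [cj_mul, cj_le_iff] at h2
  exact ⟨z, hz, h2.trans (cj_eq (le_normalizer (inv_mem hs))).le⟩

theorem Nb.ax_le_op (e : Nb A F) : ax F A ≤ op A (ax A F) := fun _ hf => mem_op.2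
  ⟨hf.2, mem_cent_iff.2 fun _ hv => e.comm_ax hv hf, fun _ hx => e.cel_mem hx hf⟩

theorem Nb.nn_le_op (e : Nb A F) : nn A F ≤ op A (ax A F) :=
  sup_le (inf_le_left.trans (e.le_cent.trans (cent_le_op inf_le_left))) e.ax_le_op

theorem ax_cent (F : Subgroup G) (hz : z ∈ 𝒞(A)) : ax A (cj z F) = ax A F := by
  have h : z ∈ 𝒞(ax A F) := cent_mono inf_le_left hz
  rw [← cj_eq_of_mem_cent h, cj_ax, cj_eq_of_mem_cent hz]

/-- an element of `op` fixing `F` centralizes `F_A` -/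
theorem Nb.op_cent (e : Nb A F) (h1 : g ∈ op A (ax A F)) (h2 : g ∈ 𝒩(F)) : g ∈ 𝒞(ax F A) :=
  mem_cent_iff.2 fun f hf => cel_eq_one.1 (by
    by_contra h3
    exact e.not_mem_cent (cel_mem_left hf (norm_ax h2 (op_le_norm h1))).1 h3 (e.op_cel inf_le_left (e.ax_le_op hf) h1))

/-- an element fixing `F` and centralizing `N` acts trivially on `F / F_A` -/
theorem Ed.cel_mem_of_cent [Finite G] (e : Ed A F) (h2 : g ∈ 𝒩(F)) (h3 : g ∈ 𝒞(nn A F)) (hy : y ∈ F) :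
    ⁅y, g⁆ ∈ ax F A := by
  obtain ⟨v, hv, v1⟩ := e.exists_mem
  have h4 : g * y * g⁻¹ ∈ F := conj_mem h2 hy
  have h5 : ⁅g * y * g⁻¹, v⁆ = ⁅y, v⁆ := by
    conv_lhs => rw [← conj_eq_of_mem h3 (mem_sup_left hv), ← cel_conj]
    exact conj_eq_of_mem h3 (mem_sup_right (e.symm.cel_mem hy hv))
  have h6 : ⁅y, g⁆ = y * (g * y * g⁻¹) := by rw [cel_def, e.w'.inv_eq hy]; group
  refine ⟨cel_mem_left hy h2, e.symm.norm_of_comm' hv.1 v1 (cel_eq_one.1 ?_)⟩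
  rw [h6, e.symm.cel_mul' hy h4 hv.2, h5, e.w'.sq (e.symm.cel_mem hy hv).1]

/-- an element of `op` fixing `F` whose square lies in `A` is an involution -/
theorem Ed.sq_eq_one [Finite G] (e : Ed A F) (h1 : g ∈ op A (ax A F)) (h2 : g ∈ 𝒩(F)) (h3 : g * g ∈ A) :
    g * g = 1 := by
  have h4 : g ∈ op F (ax F A) := mem_op.2 ⟨h2, e.op_cent h1 h2, fun y hy =>
    e.cel_mem_of_cent h2 (by rw [cent_sup]; exact ⟨op_le_cent h1, e.op_cent h1 h2⟩) hy⟩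
  by_contra h5
  exact e.symm.not_mem_cent h3 h5 (e.w'.op_sq inf_le_left h4)

/-- neighbours with the same axis: if one element of `F_A` fixes `F'` then `F_A` and `F'_A` commute -/
theorem Nb.comm_of_fix [Finite G] (e : Ed A F) (e' : Nb A F') (hV : ax A F = ax A F') (hf : f ∈ ax F A) (f1 : f ≠ 1)
    (h1 : f ∈ 𝒩(F')) : ax F A ≤ 𝒞(ax F' A) := by
  have h2 := e'.op_cent (hV ▸ e.ax_le_op hf) h1
  refine le_centralizer_iff.1 fun f' hf' => e.op_cent (hV ▸ e'.ax_le_op hf') ?_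
  exact e.norm_of_comm' hf.1 f1 (comm_of_mem h2 hf')

/-! ### swaps -/

section swap

variable (e : Nb A F) (hx : x ∈ A) (hy : y ∈ F) (s : cj y A = cj x F)
include e hx hy s

omit s in
theorem Nb.swap_sq : x * y * x * (x * y * x) = 1 := by
  calc x * y * x * (x * y * x) = x * (y * (x * x) * y) * x := by group
    _ = 1 := by rw [e.sq hx, mul_one, e.w'.sq hy, mul_one, e.sq hx]

theorem Nb.swap_left : cj (x * y * x) A = F := by
  rw [cj_mul, cj_eq (le_normalizer hx), cj_mul, s, ← cj_mul, e.sq hx, cj_one]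

theorem Nb.swap_right : cj (x * y * x) F = A := by
  rw [cj_mul, ← s, ← cj_mul, mul_assoc, e.w'.sq hy, mul_one, cj_eq (le_normalizer hx)]

theorem Nb.swap_conj (hf : f ∈ ax F A) : x * y * x * f * (x * y * x)⁻¹ = ⁅x, f⁆ ∧ ⁅y, ⁅x, f⁆⁆ = f := by
  have hv := e.cel_mem hx hf
  have h1 : x * y * x * f * (x * y * x)⁻¹ ∈ A := e.swap_right hx hy s ▸ conj_mem_cj _ hf.1
  have h2 : x * y * x * f * (x * y * x)⁻¹ = x * (⁅y, ⁅x, f⁆⁆ * ⁅x, f⁆ * (y * f * y⁻¹)) * x⁻¹ := by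
    simp only [cel_def]; group
  rw [e.w'.comm hy hf.1, mul_inv_cancel_right] at h2
  have h3 : ⁅y, ⁅x, f⁆⁆ * ⁅x, f⁆ * f ∈ A := by
    rw [h2] at h1; simpa [mul_assoc] using conj_mem' (le_normalizer hx) h1
  have h4 := e.symm.cel_mem hy hv
  rw [← e.comm_ax hv h4, mul_assoc, A.mul_mem_cancel_left hv.1] at h3
  have h5 := e.eq_one h3 (mul_mem h4.1 hf.1)
  refine ⟨?_, by rw [eq_inv_of_mul_eq_one_left h5, e.w'.inv_eq hf.1]⟩
  rw [h2, ← e.comm_ax hv h4, mul_assoc ⁅x, f⁆, h5, mul_one, e.comm hx hv.1, mul_inv_cancel_right]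

theorem Nb.swap_conj' (hf : f ∈ ax F A) : x * y * x * ⁅x, f⁆ * (x * y * x)⁻¹ = f := by
  rw [← (e.swap_conj hx hy s hf).1]
  calc _ = x * y * x * (x * y * x) * f * (x * y * x * (x * y * x))⁻¹ := by group
    _ = f := by rw [e.swap_sq hx hy]; simp

end swap

/-- the product of two swaps maps `[x', f]` to `[x, f]` -/
theorem Sm.exists_tor [Finite G] (s : Sm A F) (e : Nb A F) {x' : G} (hx : x ∈ A) (h1 : x ∉ 𝒩(F)) (hx' : x' ∈ A)
    (h2 : x' ∉ 𝒩(F)) : ∃ k ∈ A ⊔ F, k ∈ 𝒩(A) ∧ k ∈ 𝒩(F) ∧ ∀ f ∈ ax F A, k * ⁅x', f⁆ * k⁻¹ = ⁅x, f⁆ := by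
  obtain ⟨y, hy, -, s1⟩ := s.exists_swap e hx h1
  obtain ⟨y', hy', -, s2⟩ := s.exists_swap e hx' h2
  have m : ∀ {x y : G}, x ∈ A → y ∈ F → x * y * x ∈ A ⊔ F := fun hx hy =>
    mul_mem (mul_mem (mem_sup_left hx) (mem_sup_right hy)) (mem_sup_left hx)
  refine ⟨x * y * x * (x' * y' * x'), mul_mem (m hx hy) (m hx' hy'), cj_eq_iff_mem.1 ?_, cj_eq_iff_mem.1 ?_, fun f hf => ?_⟩
  · rw [cj_mul, e.swap_left hx' hy' s2, e.swap_right hx hy s1]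
  · rw [cj_mul, e.swap_right hx' hy' s2, e.swap_left hx hy s1]
  · rw [← (e.swap_conj hx hy s1 hf).1]
    conv_rhs => rw [← e.swap_conj' hx' hy' s2 hf]
    group

/-- an element of `⟨A, F⟩` fixing `A`, `F` and no non-trivial element of the axis -/
theorem Sm.exists_fpf [Finite G] (s : Sm A F) (m : Mx q r A F) (h4 : 4 ≤ q) :
    ∃ k ∈ A ⊔ F, k ∈ 𝒩(A) ∧ k ∈ 𝒩(F) ∧ ∀ v ∈ ax A F, k * v * k⁻¹ = v → v = 1 := by
  obtain ⟨x, hx, h1⟩ := m.exists_not_mem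
  obtain ⟨x', hx', h2, h3⟩ : ∃ x' ∈ A, x' ∉ 𝒩(F) ∧ x * x' ∉ 𝒩(F) := by
    by_contra! hn
    have := card_le_mul_of_fib (A := A) (T := zpowers x) (K := 𝒩(F)) (fun y => by classical exact if y ∈ 𝒩(F) then 1 else x)
      (fun y _ => by split_ifs <;> simp) fun y hy z hz e => by
        by_cases a : y ∈ 𝒩(F) <;> by_cases b : z ∈ 𝒩(F)
        · exact mul_mem (inv_mem a) b
        · simp only [a, b, if_true, if_false] at e; exact (h1 (e ▸ one_mem _)).elim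
        · simp only [a, b, if_true, if_false] at e; exact (h1 (e ▸ one_mem _)).elim
        · simpa [mul_assoc] using mul_mem (inv_mem (hn y hy a)) (hn z hz b)
    rw [m.cr, m.cq, Nat.card_zpowers, orderOf_eq_prime (by rw [sq, m.sq hx]) (fun e : x = 1 => h1 (e ▸ one_mem _))] at this
    have := m.two_le_r
    nlinarith
  obtain ⟨k, hk, k1, k2, k3⟩ := s.exists_tor m.toNb hx h1 hx' h2
  refine ⟨k, hk, k1, k2, fun v hv e => ?_⟩
  obtain ⟨f, hf, rfl⟩ := m.exists_cel hx' h2 hv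
  rw [k3 f hf] at e
  rw [m.eq_one_of_cel h3 hf.1 (by rw [m.cel_mul' hx hx' hf.2, e, m.sq hv.1]), commutatorElement_one_right]

/-- the stabilizer of `A` and `B` in `⟨A, B⟩` is transitive on `A - A_B` -/
theorem Ed.exists_tr [Finite G] (e : Ed A B) {x' : G} (hx : x ∈ A) (h1 : x ∉ 𝒩(B)) (hx' : x' ∈ A) (h2 : x' ∉ 𝒩(B)) :
    ∃ k ∈ A ⊔ B, k ∈ 𝒩(A) ∧ k ∈ 𝒩(B) ∧ k * x' * k⁻¹ = x := by
  obtain ⟨y, hy, h3⟩ := e.symm.exists_not_mem
  have key' : ∀ {x}, x ∈ A → x ∉ 𝒩(B) → ∃ t ∈ A ⊔ B, cj t A = B ∧ cj t B = A ∧ t * x * t⁻¹ = y := fun {x} hx h1 => by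
    obtain ⟨m, t2, hm⟩ := CL.Inv.exists_invol_conj_of_odd (e.sq hx) (e.w'.sq hy) (e.odd hx h1 hy h3)
    have h5 := conj_mem_cj (x * (x * y) ^ m) hx
    rw [hm] at h5
    have h4 := e.eq_of_mem_pt (Pt.of_cj _ A) e.pt h5 hy (fun e => h3 (e ▸ one_mem _))
    exact ⟨_, mul_mem (mem_sup_left hx) (pow_mem (mul_mem (mem_sup_left hx) (mem_sup_right hy)) m), h4,
      by nth_rw 1 [← h4]; rw [← cj_mul, t2, cj_one], hm⟩
  obtain ⟨t, ht, t1, t2, t3⟩ := key' hx h1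
  obtain ⟨s, hs, s1, s2, s3⟩ := key' hx' h2
  refine ⟨t⁻¹ * s, mul_mem (inv_mem ht) hs, cj_eq_iff_mem.1 ?_, cj_eq_iff_mem.1 ?_, ?_⟩
  · rw [cj_mul, s1, ← t1, cj_inv_cj]
  · rw [cj_mul, s2, ← t2, cj_inv_cj]
  · rw [mul_inv_rev, ← mul_assoc, mul_assoc t⁻¹, mul_assoc t⁻¹, s3, ← t3]; group

/-! ### maximal axes -/

/-- a `2`-subgroup of `N(A)` normalizes a maximal axis -/
theorem Mx.exists_pgroup [Finite G] (m : Mx q r A F) (hP : IsPGroup 2 P) (hn : P ≤ 𝒩(A)) :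
    ∃ g ∈ 𝒩(A), IsPGroup 2 (P ⊔ ax (cj g F) A : Subgroup G) ∧ P ≤ 𝒩(ax A (cj g F)) := by
  obtain ⟨S, hS, h1⟩ := exists_isSylowIn_ge hP hn
  obtain ⟨g, hg, h2⟩ := syl_conj_le hS (m.w'.isP.to_le inf_le_left) (inf_le_right : ax F A ≤ _)
  rw [cj_ax, cj_eq hg] at h2
  refine ⟨g, hg, hS.isPGroup.to_le (sup_le h1 h2), fun p hp => cj_eq_iff_mem.1 ?_⟩
  rw [cj_ax, cj_eq (hn hp)]
  refine ((m.cj_right hg).cj_right (hn hp)).lc (m.cj_right hg) (hS.isPGroup.to_le (sup_le ?_ h2))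
  rw [← cj_eq (hn hp), ← cj_ax]
  exact cj_le_of_mem h2 (h1 hp)

/-- `N(A)` is transitive on the maximal axes -/
theorem Mx.exists_cj_ax [Finite G] (m : Mx q r A F) (m' : Mx q r A F') : ∃ g ∈ 𝒩(A), ax A (cj g F) = ax A F' := by
  obtain ⟨g, hg, h1, -⟩ := m.exists_pgroup (m'.w'.isP.to_le inf_le_left) (inf_le_right : ax F' A ≤ _)
  exact ⟨g, hg, (m'.lc (m.cj_right hg) h1).symm⟩

/-- every axis lies in a maximal axis -/
theorem Mx.exists_ge [Finite G] (m : Mx q r A F) (e : Nb A C) : ∃ F', Mx q r A F' ∧ ax A C ≤ ax A F' ∧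
    IsPGroup 2 (ax C A ⊔ ax F' A : Subgroup G) ∧ ax C A ≤ 𝒩(ax A F') := by
  obtain ⟨g, hg, h1, h2⟩ := m.exists_pgroup (e.w'.isP.to_le inf_le_left) (inf_le_right : ax C A ≤ _)
  have m' := m.cj_right hg
  refine ⟨_, m', (e.lc m'.toNb h1).elim id fun h3 => (m'.of_le e (h3.trans inf_le_right)).2.le, h1, h2⟩

/-- every element of `A` lies in a maximal axis -/
def Cov (q r : ℕ) (A : Subgroup G) : Prop := ∀ a ∈ A, ∃ F, Mx q r A F ∧ a ∈ 𝒩(F)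

theorem Mx.cov [Finite G] (m : Mx q r A F) (hc : ∀ b ∈ A, b ≠ 1 → ∃ g, g * b * g⁻¹ ∉ 𝒩(A)) : Cov q r A := by
  intro a ha
  by_contra! hn
  have hl : ∀ E, Pt A E → a ∈ 𝒩(E) → E = A := fun E hE h1 => by
    by_contra hne
    obtain ⟨F', m', h2, -⟩ := m.exists_ge ⟨m.toW, hE, hne⟩
    exact hn F' m' (h2 ⟨ha, h1⟩).2
  obtain ⟨b, hb, b1⟩ := m.exists_mem
  obtain ⟨g, hg⟩ := hc b hb.1 b1
  refine hg (m.mem_norm_of_lonely ha hl (Pt.of_cj g A) (conj_mem_cj g hb.1) (Nat.not_odd_iff_even.1 fun ho => ?_))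
  obtain ⟨k, hk⟩ := isConj_iff.1 (CL.Inv.isConj_of_odd_mul (m.sq ha) ((m.toW.conj g).sq (conj_mem_cj g hb.1)) ho)
  have e : a = k⁻¹ * g * b * (k⁻¹ * g)⁻¹ := by rw [← inv_mul_cancel_left k a, ← mul_inv_cancel_right (k * a) k⁻¹, hk]; group
  have h1 := hl _ (Pt.of_cj (k⁻¹ * g) A) (e ▸ mem_norm_cj.2 (le_normalizer hb.1))
  have h2 := hl _ (m.pt.cj_right (k⁻¹ * g)) (e ▸ mem_norm_cj.2 hb.2)
  exact m.ne (cj_inj.1 (h2.trans h1.symm))

theorem Mx.cov_of_simple [Finite G] [IsSimpleGroup G] (m : Mx q r A F) : Cov q r A := by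
  refine m.cov fun b hb b1 => ?_
  by_contra! hn
  rcases (normalClosure_normal (s := {b})).eq_bot_or_eq_top with e | e
  · exact b1 (mem_bot.1 (e ▸ subset_normalClosure rfl))
  · have : normalClosure {b} ≤ 𝒩(A) := closure_le _ |>.2 fun x hx => by
      obtain ⟨_, rfl, h⟩ := Group.mem_conjugatesOfSet_iff.1 hx
      obtain ⟨g, rfl⟩ := isConj_iff.1 h
      exact hn g
    exact m.symm.not_le (le_top.trans (e ▸ this))

theorem Cov.exists_ne [Finite G] (c : Cov q r A) (m : Mx q r A F) : ∃ C, Mx q r A C ∧ ax A F ≠ ax A C := by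
  obtain ⟨x, hx, hx'⟩ := m.exists_not_mem
  obtain ⟨C, m', h1⟩ := c x hx
  exact ⟨C, m', fun e => hx' (e.ge ⟨hx, h1⟩).2⟩

/-! ### minimal pairs and triangles -/

/-- two maximal neighbours with different axes whose intersection is as large as possible -/
structure MinP (q r : ℕ) (A F C : Subgroup G) : Prop where
  mF : Mx q r A F
  mC : Mx q r A C
  ne : ax A F ≠ ax A C
  min : ∀ F' C', Mx q r A F' → Mx q r A C' → ax A F' ≠ ax A C' →
    Nat.card (ax A F' ⊓ ax A C' : Subgroup G) ≤ Nat.card (ax A F ⊓ ax A C : Subgroup G)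

theorem Mx.exists_not_mem_ax [Finite G] (m : Mx q r A F) (m' : Mx q r A C) (hne : ax A F ≠ ax A C) :
    ∃ x ∈ ax A C, x ∉ 𝒩(F) := by
  by_contra! hn
  exact hne (m'.ax_eq_of_le m fun x hx => ⟨hx.1, hn x hx⟩).symm

theorem Cov.exists_minP [Finite G] (c : Cov q r A) (m : Mx q r A F) : ∃ C F', MinP q r A F' C := by
  obtain ⟨C, m', h1⟩ := c.exists_ne m
  obtain ⟨p, hp, h2⟩ := Set.exists_max_image {p : Subgroup G × Subgroup G | Mx q r A p.1 ∧ Mx q r A p.2 ∧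
    ax A p.1 ≠ ax A p.2} (fun p => Nat.card (ax A p.1 ⊓ ax A p.2 : Subgroup G)) (Set.toFinite _) ⟨(F, C), m, m', h1⟩
  exact ⟨_, _, hp.1, hp.2.1, hp.2.2, fun F' C' a b c => h2 (F', C') ⟨a, b, c⟩⟩

namespace MinP

variable [Finite G] (p : MinP q r A F C)
include p

theorem symm : MinP q r A C F := ⟨p.mC, p.mF, p.ne.symm, fun a b c d e => inf_comm (ax A F) _ ▸ p.min a b c d e⟩

theorem conj (hg : g ∈ 𝒩(A)) : MinP q r A (cj g F) (cj g C) := by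
  have e : ∀ B, ax A (cj g B) = cj g (ax A B) := fun B => by rw [cj_ax, cj_eq hg]
  exact ⟨p.mF.cj_right hg, p.mC.cj_right hg, by rw [e, e]; exact fun h => p.ne (cj_inj.1 h),
    fun a b c d h => by rw [e, e, ← cj_inf, card_cj]; exact p.min a b c d h⟩

/-- another pair whose axes contain the intersection -/
theorem of_le {C' : Subgroup G} (m : Mx q r A F') (m' : Mx q r A C') (hne : ax A F' ≠ ax A C')
    (h : ax A F ⊓ ax A C ≤ ax A F' ⊓ ax A C') : MinP q r A F' C' ∧ ax A F' ⊓ ax A C' = ax A F ⊓ ax A C :=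
  have e := (eq_of_le_of_card_ge h (p.min _ _ m m' hne)).symm
  ⟨⟨m, m', hne, fun a b c d h => e ▸ p.min a b c d h⟩, e⟩

/-- `N_{F_A}(A_C) = {f | [x, f] ∈ A_C}` for `x ∈ A_C - A_F` -/
theorem mem_norm_iff (hx : x ∈ ax A C) (hx' : x ∉ 𝒩(F)) (hf : f ∈ ax F A) : f ∈ 𝒩(ax A C) ↔ ⁅x, f⁆ ∈ 𝒩(C) := by
  refine ⟨fun h => (cel_mem_left hx h).2, fun h => cj_eq_iff_mem.1 ?_⟩
  rw [cj_ax, cj_eq hf.2]
  by_contra hne
  have h1 : ∀ v ∈ ax A C, f * v * f⁻¹ ∈ ax A (cj f C) := fun v hv => ⟨conj_mem hf.2 hv.1, mem_norm_cj.2 hv.2⟩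
  have h2 := (p.of_le (p.mC.cj_right hf.2) p.mC hne fun v hv => mem_inf.2 ⟨by
    simpa only [← p.mF.comm_ax hv.1 hf, mul_inv_cancel_right] using h1 v hv.2, hv.2⟩).2
  have h3 : f * x * f⁻¹ = ⁅x, f⁆⁻¹ * x := by simp only [cel_def]; group
  have h4 : f * x * f⁻¹ ∈ ax A C := h3 ▸ mul_mem (inv_mem ⟨(p.mF.cel_mem hx.1 hf).1, h⟩) hx
  have h5 : f * x * f⁻¹ ∈ 𝒩(F) := (h2.le ⟨h1 x hx, h4⟩).1.2
  have h6 : ⁅x, f⁆ ∈ 𝒩(F) := (p.mF.cel_mem hx.1 hf).2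
  rw [h3, mul_mem_cancel_left (inv_mem h6)] at h5
  exact hx' h5

theorem cel_mem (hx : x ∈ ax A F ⊔ ax A C) (hf : f ∈ ax F A) (h1 : f ∈ 𝒩(ax A C)) : ⁅x, f⁆ ∈ ax A F ⊓ ax A C := by
  obtain ⟨u, hu, v, hv, rfl⟩ := (mem_sup_nr (H := ax A F) (inf_le_left.trans (p.mF.le_cent.trans
    ((cent_mono inf_le_left).trans (cent_le_norm _))))).1 hx
  rw [p.mF.cel_mul' hu.1 hv.1 hf.2, p.mF.cel_ax hu hf, one_mul]
  exact ⟨p.mF.cel_mem hv.1 hf, cel_mem_left hv h1⟩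

theorem card_FI : Nat.card (ax F A ⊓ 𝒩(ax A C) : Subgroup G) = Nat.card (ax A F ⊓ ax A C : Subgroup G) := by
  obtain ⟨x, hx, hx'⟩ := p.mF.exists_not_mem_ax p.mC p.ne
  refine Nat.card_congr (Equiv.ofBijective (fun f => ⟨⁅x, f⁆, p.cel_mem (mem_sup_right hx) f.2.1 f.2.2⟩) ⟨fun a b e =>
    Subtype.ext (p.mF.cel_inj hx.1 hx' a.2.1 b.2.1 (congrArg Subtype.val e)), fun ⟨v, hv⟩ => ?_⟩)
  obtain ⟨f, hf, rfl⟩ := p.mF.exists_cel hx.1 hx' hv.1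
  exact ⟨⟨f, hf, (p.mem_norm_iff hx hx' hf).2 hv.2.2⟩, rfl⟩

theorem comm_of_fix (hf : f ∈ ax F A) (h1 : f ∈ 𝒩(C)) (hc : c ∈ ax C A) (h2 : c ∈ 𝒩(ax A F)) : f * c = c * f := by
  obtain ⟨x, hx, hx'⟩ := p.mC.exists_not_mem_ax p.mF p.ne.symm
  have h3 := op_le_cent (p.mF.ax_le_op hf)
  have h4 : ⁅f, c⁆ ∈ 𝒞(ax A F) := cel_mem_left h3 (norm_le_norm_cent _ h2)
  exact cel_eq_one.1 (p.mC.eq_one_of_cel hx' (cel_mem_right h1 hc.1) (cel_eq_one.2 (comm_of_mem h4 hx)))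

/-- all or nothing -/
theorem aon (hI : ax A F ⊓ ax A C ≠ ⊥) (hf : f ∈ ax F A) (f1 : f ≠ 1) (h1 : f ∈ 𝒩(C)) (hg : g ∈ ax F A)
    (h2 : g ∈ 𝒩(ax A C)) : g ∈ 𝒩(C) := by
  obtain ⟨c, hc, c1⟩ := (bot_or_exists_ne_one (ax C A ⊓ 𝒩(ax A F))).resolve_left fun e => hI (card_eq_one.1 (by
    rw [inf_comm, ← p.symm.card_FI, e, card_bot]))
  have h3 := p.mF.norm_of_comm' hf.1 f1 (p.comm_of_fix hf h1 hc.1 hc.2).symm
  exact p.mC.norm_of_comm' hc.1.1 c1 (p.symm.comm_of_fix hc.1 h3 hg h2).symm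

end MinP

/-- a triangle `A, F, C` with a minimal pair of axes -/
structure Tr (q r : ℕ) (A F C : Subgroup G) : Prop extends MinP q r A F C where
  nt : ax A F ⊓ ax A C ≠ ⊥
  tri : ∀ f ∈ ax F A, f ∈ 𝒩(ax A C) → f ∈ 𝒩(C)

namespace Tr

variable [Finite G] (p : Tr q r A F C)
include p

theorem exists_mem : ∃ f ∈ ax F A, f ≠ 1 ∧ f ∈ 𝒩(C) := by
  obtain ⟨f, hf, f1⟩ := (bot_or_exists_ne_one (ax F A ⊓ 𝒩(ax A C))).resolve_left fun e => p.nt (card_eq_one.1 (by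
    rw [← p.card_FI, e, card_bot]))
  exact ⟨f, hf.1, f1, p.tri f hf.1 hf.2⟩

theorem symm : Tr q r A C F := ⟨p.toMinP.symm, inf_comm (ax A F) _ ▸ p.nt, fun c hc h => by
  obtain ⟨f, hf, f1, h1⟩ := p.exists_mem
  exact p.mF.norm_of_comm' hf.1 f1 (p.comm_of_fix hf h1 hc h).symm⟩

theorem FI_eq : ax F A ⊓ 𝒩(ax A C) = ax F A ⊓ 𝒩(C) :=
  le_antisymm (fun f hf => ⟨hf.1, p.tri f hf.1 hf.2⟩) fun _ hf => ⟨hf.1, norm_ax hf.1.2 hf.2⟩

theorem card_FI' : Nat.card (ax F A ⊓ 𝒩(C) : Subgroup G) = Nat.card (ax A F ⊓ ax A C : Subgroup G) :=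
  p.FI_eq ▸ p.card_FI

theorem ed : Ed F C := by
  obtain ⟨f, hf, f1, h1⟩ := p.exists_mem
  exact Ed.of_mem ⟨p.mF.w', p.mF.pt.symm.trans p.mC.pt, fun e => p.ne (by rw [e])⟩ hf.1 h1 f1

theorem comm (hf : f ∈ F) (h1 : f ∈ 𝒩(C)) (hc : c ∈ C) (h2 : c ∈ 𝒩(F)) : f * c = c * f := p.ed.comm_ax ⟨hf, h1⟩ ⟨hc, h2⟩

end Tr

/-! ### global properties -/

/-- all maximal edges have invariant lines -/
def SmP (q r : ℕ) (A : Subgroup G) : Prop := ∀ F, Mx q r A F → Sm A F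
/-- maximal neighbours with parts in a common `2`-group lie on a line -/
def LineP (q r : ℕ) (A : Subgroup G) : Prop :=
  ∀ F F', Mx q r A F → Mx q r A F' → IsPGroup 2 (ax F A ⊔ ax F' A : Subgroup G) → Ln A F F'
/-- one line for each maximal axis -/
def UniP (q r : ℕ) (A : Subgroup G) : Prop := ∀ F F', Mx q r A F → Mx q r A F' → ax A F = ax A F' → Ln A F F'
/-- two maximal axes generate `A` -/
def FullP (q r : ℕ) (A : Subgroup G) : Prop :=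
  ∀ F C, Mx q r A F → Mx q r A C → ax A F ≠ ax A C → ax A F ⊔ ax A C = A
/-- maximal neighbours with different axes form a triangle -/
def TriP (q r : ℕ) (A : Subgroup G) : Prop := ∀ F C, Mx q r A F → Mx q r A C → ax A F ≠ ax A C → Tr q r A F C
/-- the graph is connected -/
def Conn (A : Subgroup G) : Prop := ∀ B, Pt A B → Relation.ReflTransGen Ed A B
/-- the graph of the maximal edges is connected -/
def MConn (q r : ℕ) (A : Subgroup G) : Prop := ∀ B, Pt A B → Relation.ReflTransGen (Mx q r) A B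
/-- the intersection of the maximal axes -/
def uu (q r : ℕ) (A : Subgroup G) : Subgroup G := A ⊓ ⨅ F : {F // Mx q r A F}, 𝒩(F.1)

theorem mem_uu : v ∈ uu q r A ↔ v ∈ A ∧ ∀ F, Mx q r A F → v ∈ 𝒩(F) :=
  ⟨fun h => ⟨h.1, fun F m => mem_iInf.1 h.2 ⟨F, m⟩⟩, fun h => ⟨h.1, mem_iInf.2 fun F => h.2 F.1 F.2⟩⟩

variable [Finite G]

theorem Mx.conj_inv (m : Mx q r (cj g A) F) : Mx q r A (cj g⁻¹ F) := by simpa only [cj_inv_cj] using m.conj g⁻¹

theorem cj_uu (g : G) : cj g (uu q r A) = uu q r (cj g A) := by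
  ext v
  rw [mem_cj, mem_uu, mem_uu, mem_cj]
  refine and_congr_right fun _ => ⟨fun h F m => ?_, fun h F m => ?_⟩
  · have := (mem_norm_cj (g := g)).2 (h _ m.conj_inv)
    rw [cj_cj_inv] at this
    simpa [mul_assoc] using this
  · simpa only [cj_inv_cj, inv_inv] using (mem_norm_cj (g := g⁻¹)).2 (h _ (m.conj g))

theorem MinP.conj' (p : MinP q r A F C) (g : G) : MinP q r (cj g A) (cj g F) (cj g C) :=
  ⟨p.mF.conj g, p.mC.conj g, by rw [← cj_ax, ← cj_ax]; exact fun e => p.ne (cj_inj.1 e), fun a b c d e => by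
    have := p.min _ _ c.conj_inv d.conj_inv fun h => e (by
      rw [← cj_cj_inv g a, ← cj_cj_inv g b, ← cj_ax, ← cj_ax, h])
    rwa [← cj_ax, ← cj_ax, ← cj_inf, card_cj, ← cj_cj_inv g a, ← cj_cj_inv g b, ← cj_ax, ← cj_ax, ← cj_inf, card_cj]⟩

theorem Tr.conj' (p : Tr q r A F C) (g : G) : Tr q r (cj g A) (cj g F) (cj g C) :=
  ⟨p.toMinP.conj' g, by rw [← cj_ax, ← cj_ax, ← cj_inf]; exact mt cj_eq_bot.1 p.nt, fun f hf h => by
    rw [← cj_ax] at hf h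
    rw [← cj_norm] at h ⊢
    exact mem_cj.2 (p.tri _ (mem_cj.1 hf) (mem_cj.1 h))⟩

theorem Cov.pt (c : Cov q r A) (hB : Pt A B) : Cov q r B := by
  obtain ⟨g, rfl⟩ := hB
  intro a ha
  obtain ⟨F, m, h⟩ := c _ (mem_cj.1 ha)
  exact ⟨_, m.conj g, cj_norm g F ▸ mem_cj.2 h⟩

theorem SmP.pt (c : SmP q r A) (hB : Pt A B) : SmP q r B := by
  obtain ⟨g, rfl⟩ := hB
  exact fun F m => by simpa only [cj_cj_inv] using (c _ m.conj_inv).conj g

theorem LineP.pt (c : LineP q r A) (hB : Pt A B) : LineP q r B := by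
  obtain ⟨g, rfl⟩ := hB
  intro F F' m m' h
  have := isPGroup_cj h g⁻¹
  rw [cj_sup, cj_ax, cj_ax, cj_inv_cj] at this
  simpa only [cj_cj_inv] using (c _ _ m.conj_inv m'.conj_inv this).conj g

theorem ax_conj_inv (e : ax A (cj g⁻¹ F) = ax A (cj g⁻¹ C)) : ax (cj g A) F = ax (cj g A) C := by
  rw [← cj_cj_inv g F, ← cj_cj_inv g C, ← cj_ax, ← cj_ax, e]

theorem UniP.pt (c : UniP q r A) (hB : Pt A B) : UniP q r B := by
  obtain ⟨g, rfl⟩ := hB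
  intro F F' m m' h
  have := congrArg (fun X => cj g⁻¹ X) h
  simp only [cj_ax, cj_inv_cj] at this
  simpa only [cj_cj_inv] using (c _ _ m.conj_inv m'.conj_inv this).conj g

theorem FullP.pt (c : FullP q r A) (hB : Pt A B) : FullP q r B := by
  obtain ⟨g, rfl⟩ := hB
  intro F F' m m' h
  have := congrArg (fun X => cj g X) (c _ _ m.conj_inv m'.conj_inv fun e => h (ax_conj_inv e))
  simpa only [cj_sup, cj_ax, cj_cj_inv] using this

theorem TriP.pt (c : TriP q r A) (hB : Pt A B) : TriP q r B := by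
  obtain ⟨g, rfl⟩ := hB
  exact fun F F' m m' h => by
    simpa only [cj_cj_inv] using (c _ _ m.conj_inv m'.conj_inv fun e => h (ax_conj_inv e)).conj' g

theorem rtg_conj {R : Subgroup G → Subgroup G → Prop} (hR : ∀ {A B} (g : G), R A B → R (cj g A) (cj g B))
    (h : Relation.ReflTransGen R A B) (g : G) : Relation.ReflTransGen R (cj g A) (cj g B) :=
  h.lift (fun X => cj g X) fun _ _ => hR g

theorem Conn.pt (c : Conn A) (hB : Pt A B) : Conn B := by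
  obtain ⟨g, rfl⟩ := hB
  exact fun C hC => by
    simpa only [cj_cj_inv] using rtg_conj (fun g e => e.conj g) (c _ (((Pt.of_cj g A).trans hC).cj_right g⁻¹)) g

theorem MConn.pt (c : MConn q r A) (hB : Pt A B) : MConn q r B := by
  obtain ⟨g, rfl⟩ := hB
  exact fun C hC => by
    simpa only [cj_cj_inv] using rtg_conj (fun g e => e.conj g) (c _ (((Pt.of_cj g A).trans hC).cj_right g⁻¹)) g

theorem UniP.line (u : UniP q r A) : LineP q r A := fun F F' m m' h => u F F' m m' (m.lc m' h)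

/-- an element normalizing `A` and the axis maps `F` into the line -/
theorem UniP.exists_cj (u : UniP q r A) (m : Mx q r A F) (h1 : g ∈ 𝒩(A)) (h2 : g ∈ 𝒩(ax A F)) :
    ∃ a ∈ A, cj a F = cj g F :=
  (u F _ m (m.cj_right h1) (by rw [← cj_eq h2, cj_ax, cj_eq h1])).resolve_left (m.cj_right h1).ne

theorem UniP.norm_nn (u : UniP q r A) (m : Mx q r A F) (h1 : g ∈ 𝒩(A)) (h2 : g ∈ 𝒩(ax A F)) :
    g ∈ 𝒩(nn A F) ∧ g ∈ 𝒩(A ⊔ F) := by
  obtain ⟨a, ha, e⟩ := u.exists_cj m h1 h2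
  have := (Ln.nb (Or.inr ⟨a, ha, e⟩) m.toNb (m.cj_right h1).ne).2.2
  exact ⟨cj_eq_iff_mem.1 (by rw [cj_nn, cj_eq h1, this.1]), cj_eq_iff_mem.1 (by rw [cj_sup, cj_eq h1, this.2])⟩

theorem card_sup_mul (e : W A) (h1 : B ≤ A) (h2 : C ≤ A) : Nat.card (B ⊔ C : Subgroup G) *
    Nat.card (B ⊓ C : Subgroup G) = Nat.card B * Nat.card C :=
  card_sup_mul_card_inf (h1.trans (e.le_cent.trans ((cent_mono h2).trans (cent_le_norm _))))

theorem FullP.card (u : FullP q r A) (m : Mx q r A F) (m' : Mx q r A C) (hne : ax A F ≠ ax A C) :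
    q * Nat.card (ax A F ⊓ ax A C : Subgroup G) = r := by
  have := card_sup_mul m.toW (inf_le_left : ax A F ≤ A) (inf_le_left : ax A C ≤ A)
  rw [u F C m m' hne, m.cq, m.cr, m'.cr, mul_right_comm] at this
  exact Nat.eq_of_mul_eq_mul_right (by have := m.two_le_r; omega) this

theorem FullP.minP (u : FullP q r A) (m : Mx q r A F) (m' : Mx q r A C) (hne : ax A F ≠ ax A C) : MinP q r A F C :=
  ⟨m, m', hne, fun _ _ a b c => Nat.le_of_mul_le_mul_left ((u.card a b c).trans (u.card m m' hne).symm).le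
    (by have := m.two_le_q; omega)⟩

/-- the standard setting -/
structure St (q r : ℕ) (A : Subgroup G) : Prop extends W A where
  ex : ∃ F, Mx q r A F
  cov : Cov q r A
  sm : SmP q r A
  uni : UniP q r A

/-- the standard setting with `q < r` -/
structure S2 (q r : ℕ) (A : Subgroup G) : Prop extends St q r A where
  lt : q < r
  full : FullP q r A
  tri : TriP q r A

theorem St.pt (s : St q r A) (hB : Pt A B) : St q r B :=
  ⟨s.toW.of_pt hB, let ⟨_, m⟩ := s.ex; m.exists_at hB, s.cov.pt hB, s.sm.pt hB, s.uni.pt hB⟩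

theorem S2.pt (s : S2 q r A) (hB : Pt A B) : S2 q r B := ⟨s.toSt.pt hB, s.lt, s.full.pt hB, s.tri.pt hB⟩

/-- two maximal neighbours with the same axis are joined by a maximal edge -/
theorem St.mx_of_ax (s : St q r A) (m : Mx q r A F) (m' : Mx q r A F') (e : ax A F = ax A F') (hne : F' ≠ F) :
    Mx q r F F' := (s.sm F m).mx_of_ln m (Ln.right A F) (s.uni F F' m m' e) hne

end CL.WTI
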