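/-
Weakly closed TI-subgroups: the statements of the steps of the classification.
-/
import Cfsg.Agent.Timm.W1

set_option autoImplicit false

open Cfsg Subgroup
open scoped commutatorElement

namespace CL.WTI

open CL.Even CL.Timm CL.Grp

universe u

/-- `G ≅ PSL_n(F)`, `n ≥ 3`, `F` finite of characteristic two -/
def L2c (G : Type*) [Group G] : Prop := ∃ (F : Type) (_ : Field F) (_ : Fintype F) (_ : CharP F 2) (n : ℕ),
  3 ≤ n ∧ Nonempty (G ≃* Matrix.ProjectiveSpecialLinearGroup (Fin n) F)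

/-- `G ≅ Alt n` -/
abbrev IsAlt (G : Type*) [Group G] (n : ℕ) : Prop := Nonempty (G ≃* alternatingGroup (Fin n))

section

variable {G : Type*} [Group G]

/-- maximal neighbours of `A` with the axis of `F` whose part in `N(A)` lies in `A_F F_A F'_A` -/
def ClS (q r : ℕ) (A F F' : Subgroup G) : Set (Subgroup G) :=
  {B | Mx q r A B ∧ ax A B = ax A F ∧ ax B A ≤ nn A F ⊔ ax F' A}

/-- `C(A) = A C(⟨A, F⟩)` -/
def ZnP (q r : ℕ) (A : Subgroup G) : Prop := ∀ F, Mx q r A F → ∀ z ∈ 𝒞(A), ∃ a ∈ A, ∃ c ∈ 𝒞(A ⊔ F), a * c = z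

/-- the first consequences of `q = r` -/
structure C1 (q : ℕ) (A : Subgroup G) : Prop where
  cover : ∀ F, Mx q q A F → ∀ n ∈ nn A F, ∃ B, Ln A F B ∧ n ∈ B
  q1 : ∀ F, Mx q q A F → ∀ B d, Pt A B → d ∈ B → d ∈ 𝒞(nn A F) → d ∈ nn A F
  sm : SmP q q A
  line : LineP q q A

/-- the `2`-elements of `N(A)` centralizing an axis lie in `N A` -/
def KP (q : ℕ) (A : Subgroup G) : Prop := ∀ F k, Mx q q A F → k ∈ 𝒩(A) → IsPGroup 2 (zpowers k) →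
  k ∈ 𝒞(ax A F) → k ∈ nn A F ⊔ A

/-- the local structure for `|A| = 4`; `X = A ⊔ F`, `K = C(X)`, `N = nn A F`, `B = N ⊔ A` -/
structure F4S (A F : Subgroup G) : Prop where
  nN : ∀ g ∈ 𝒩(nn A F), ∃ x ∈ A ⊔ F, ∃ k ∈ 𝒞(A ⊔ F), x * k = g
  zX : (A ⊔ F) ⊓ 𝒞(A ⊔ F) = ⊥
  zA : ∀ z ∈ 𝒞(A), ∃ a ∈ A, ∃ o ∈ (oddCore 𝒞(A)).map (𝒞(A)).subtype, ∃ k ∈ 𝒞(A ⊔ F), a * o * k = z
  cv : 𝒞(ax A F) ≤ 𝒞(A) ⊔ ax F A
  syl : ∀ T : Subgroup G, IsPGroup 2 T → nn A F ⊔ A ≤ T → ∀ t ∈ T, ∃ b ∈ nn A F ⊔ A, ∃ k ∈ 𝒞(A ⊔ F), b * k = t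
  sc : ∀ T : Subgroup G, IsPGroup 2 T → nn A F ⊔ A ≤ T → ∀ b ∈ nn A F ⊔ A, ∀ g, g * b * g⁻¹ ∈ T → g * b * g⁻¹ ∈ nn A F ⊔ A

/-- the list of the simple groups with an edge -/
def Concl (A : Subgroup G) : Prop := L2c G ∨ IsAlt G 6 ∨ (IsAlt G 7 ∧ ¬ IsPGroup 2 𝒞(A)) ∨ IsAlt G 9 ∨
  Spor.IsoM22 G ∨ Spor.IsoM23 G ∨ Spor.IsoM24 G

theorem ZnP.pt [Finite G] {q r : ℕ} {A B : Subgroup G} (c : ZnP q r A) (hB : Pt A B) : ZnP q r B := by
  obtain ⟨g, rfl⟩ := hB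
  intro F m z hz
  rw [← cj_cent] at hz
  obtain ⟨a, ha, k, hk, e⟩ := c _ m.conj_inv _ (mem_cj.1 hz)
  refine ⟨_, conj_mem_cj g ha, g * k * g⁻¹, ?_, by rw [conj_mul, e]; group⟩
  rw [← cj_cj_inv g F, ← cj_sup, ← cj_cent]
  exact conj_mem_cj g hk

theorem C1.pt [Finite G] {q : ℕ} {A B : Subgroup G} (c : C1 q A) (hB : Pt A B) : C1 q B := by
  refine ⟨?_, ?_, c.sm.pt hB, c.line.pt hB⟩ <;> obtain ⟨g, rfl⟩ := hB
  · intro F m n hn
    rw [← cj_cj_inv g F, ← cj_nn] at hn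
    obtain ⟨B, l, h⟩ := c.cover _ m.conj_inv _ (mem_cj.1 hn)
    exact ⟨_, by simpa only [cj_cj_inv] using l.conj g, mem_cj.2 h⟩
  · intro F m B d h1 h2 h3
    rw [← cj_cj_inv g F, ← cj_nn] at h3 ⊢
    rw [← cj_cent] at h3
    exact mem_cj.2 (c.q1 _ m.conj_inv (cj g⁻¹ B) _ (((Pt.of_cj g A).trans h1).cj_right _)
      (by simpa using conj_mem_cj g⁻¹ h2) (mem_cj.1 h3))

end

/-- (LEMC) maximal neighbours whose parts lie in a common `2`-group commute -/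
def LemC : Prop := ∀ {G : Type u} [Group G] [Finite G] {q r : ℕ} {A F F' : Subgroup G}, Mx q r A F → Mx q r A F' →
  IsPGroup 2 (ax F A ⊔ ax F' A : Subgroup G) → ax F A ≤ 𝒞(ax F' A)

/-- (R2) reduction to simple groups -/
def R2Thm : Prop := ∀ {G : Type u} [Group G] [Finite G] {A : Subgroup G}, W A → 4 ≤ Nat.card A → ncl ⊤ A = ⊤ →
  A ⊓ pCore 2 G = ⊥ → IsSimpleGroup (G ⧸ center G) ∧ ¬ IsMulCommutative (G ⧸ center G)

/-- (HOLT) with a strongly embedded subgroup no `2`-element fixes two points -/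
def SEThm : Prop := ∀ {G : Type u} [Group G] [Finite G] [IsSimpleGroup G] {A B P : Subgroup G},
  ¬ IsMulCommutative G → (∃ H : Subgroup G, IsStronglyEmbedded H) → Nb A B → A ≠ ⊥ → IsPGroup 2 P → P ≤ 𝒩(A) →
    P ≤ 𝒩(B) → P = ⊥

/-- (HOLT) the disconnected case -/
def HoltP : Prop := ∀ {G : Type u} [Group G] [Finite G] [IsSimpleGroup G] {A : Subgroup G},
  ¬ IsMulCommutative G → W A → A ≠ ⊥ → ¬ Conn A → (∃ H : Subgroup G, IsStronglyEmbedded H) ∨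
    (IsAlt G 9 ∧ ∃ B, Pt A B ∧ ¬ Relation.ReflTransGen Ed A B ∧
      ∃ a ∈ A, a ≠ 1 ∧ ∃ b ∈ B, b ≠ 1 ∧ Even (orderOf (a * b)))

/-- (NE) a `2`-element of `⟨A, B⟩` fixing `A` and `B` acts trivially on `A / A_B` -/
def NEThm : Prop := ∀ {G : Type u} [Group G] [Finite G] {A B : Subgroup G} {h : G}, Ed A B →
  4 * Nat.card (ax A B) ≤ Nat.card A → h ∈ A ⊔ B → IsPGroup 2 (zpowers h) → h ∈ 𝒩(A) → h ∈ 𝒩(B) →
    ∀ x ∈ A, ⁅x, h⁆ ∈ ax A B

/-- (NE) coprime generation on the section `T / T₀` -/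
def GenThm : Prop := ∀ {G : Type u} [Group G] [Finite G] {T T₀ K E U : Subgroup G}, T₀ ≤ T → T ≤ 𝒩(T₀) →
  K ≤ 𝒩(T) → K ≤ 𝒩(T₀) → E ≤ 𝒩(T) → E ≤ 𝒩(T₀) → E ≤ 𝒩(K) →
  (∀ k ∈ K, IsPGroup 2 (zpowers k) → ∀ x ∈ T, ⁅x, k⁆ ∈ T₀) → IsElementaryAbelian 2 E → 4 ≤ Nat.card E →
  U ≤ T → U ≠ T → (∀ e ∈ E, e ≠ 1 → ∀ x ∈ T, ⁅x, e⁆ ∈ T₀ ↔ x ∈ U) → K ≤ 𝒩(U)

/-- (SL) the spread count -/
def SCThm : Prop := ∀ {G : Type u} [Group G] [Finite G] {A F A₁ : Subgroup G} {h : G}, Ed A F → h ∈ 𝒩(A) →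
  h ∈ 𝒩(F) → ax A F ≤ A₁ → A₁ ≤ A → ¬ A₁ ≤ 𝒩(F) → (∀ x ∈ A₁, ⁅x, h⁆ ∈ ax A F) → h ∉ 𝒞(ax A F) →
  Nat.card A₁ * Nat.card (ax A F ⊓ 𝒞(zpowers h) : Subgroup G) ≤ Nat.card (ax A F) * Nat.card (ax A F)

/-- (SL) small lines -/
def SLThm : Prop := ∀ {G : Type u} [Group G] [Finite G] {q r : ℕ} {A F : Subgroup G} {h : G}, Mx q r A F →
  IsPGroup 2 (zpowers h) → h ∈ 𝒩(A) → h ∈ 𝒩(F) → (∀ x ∈ A, ⁅x, h⁆ ∈ ax A F) → h ∉ 𝒞(ax A F) →
  r ≤ q * Nat.card (ax A F ⊓ 𝒞(zpowers h) : Subgroup G) →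
  Sm A F ∧ (∀ y ∈ F, ⁅y, h⁆ ∈ ax F A) ∧ r = q * Nat.card (ax A F ⊓ 𝒞(zpowers h) : Subgroup G)

/-- (CL) two commuting lines with the same axis span at least a plane -/
def CLa : Prop := ∀ {G : Type u} [Group G] [Finite G] {q r : ℕ} {A F F' : Subgroup G}, SmP q r A → Mx q r A F →
  Mx q r A F' → ax A F = ax A F' → ax F A ≤ 𝒞(ax F' A) → ¬ Ln A F F' → q * q + q ≤ (ClS q r A F F').ncard

/-- (CL) no element fixes two such lines and acts with small index on the axis -/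
def CLb : Prop := ∀ {G : Type u} [Group G] [Finite G] {q r : ℕ} {A F F' : Subgroup G} {h : G}, SmP q r A →
  Mx q r A F → Mx q r A F' → ax A F = ax A F' → ax F A ≤ 𝒞(ax F' A) → ¬ Ln A F F' → h ∈ 𝒩(A) → h ∈ 𝒩(F) →
  h ∈ 𝒩(F') → (∀ x ∈ A, ⁅x, h⁆ ∈ ax A F) → (∀ y ∈ F, ⁅y, h⁆ ∈ ax F A) → (∀ y ∈ F', ⁅y, h⁆ ∈ ax F' A) →
  h ∉ 𝒞(ax A F) → r ≤ q * Nat.card (ax A F ⊓ 𝒞(zpowers h) : Subgroup G) → False

/-- (PAIR) a minimal pair gives a triangle -/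
def PairThm : Prop := ∀ {G : Type u} [Group G] [Finite G] {q r : ℕ} {A F C : Subgroup G}, MinP q r A F C →
  ax A F ⊓ ax A C ≠ ⊥ → ∃ z ∈ 𝒞(A), ∃ c ∈ ax (cj z C) A, c ∉ 𝒩(ax A F) ∧ Tr q r A F (cj c F) ∧
    ax A F ⊓ ax A (cj c F) = ax A F ⊓ ax A C

/-- (PAIR) all pairs of different axes give triangles -/
def TriThm : Prop := ∀ {G : Type u} [Group G] [Finite G] {q r : ℕ} {A : Subgroup G}, q < r → FullP q r A →
  UniP q r A → TriP q r A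

/-- (WA) two axes generate `A`, all maximal edges are small -/
def WAThm : Prop := ∀ {G : Type u} [Group G] [Finite G] {q r : ℕ} {A : Subgroup G}, q < r → Cov q r A →
  FullP q r A ∧ SmP q r A

/-- (LINE2) the line theorem for `q < r` -/
def Line2Thm : Prop := ∀ {G : Type u} [Group G] [Finite G] {q r : ℕ} {A : Subgroup G}, q < r → Cov q r A →
  FullP q r A → SmP q r A → LineP q r A

/-- (LINE1) the line theorem for `q = r` -/
def Line1Thm : Prop := ∀ {G : Type u} [Group G] [Finite G] (q : ℕ) (A : Subgroup G), C1 q A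

/-- (ZN) the centralizer of `A` -/
def ZNThm : Prop := ∀ {G : Type u} [Group G] [Finite G] {q r : ℕ} {A : Subgroup G}, 4 ≤ r → SmP q r A →
  LineP q r A → UniP q r A ∧ ZnP q r A

/-- (BAD) the maximal edges connect the points -/
def BadThm : Prop := ∀ {G : Type u} [Group G] [Finite G] {q r : ℕ} {A : Subgroup G}, St q r A → Conn A →
  MConn q r A

/-- (MAXT) for `q ≥ 4` triangles consist of maximal edges -/
def MaxtThm : Prop := ∀ {G : Type u} [Group G] [Finite G] {q r : ℕ} {A F C : Subgroup G}, S2 q r A → 4 ≤ q →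
  Mx q r A F → Mx q r A C → ax A F ≠ ax A C → Mx q r F C

/-- (ONAN) the doubly transitive case -/
def OnanThm : Prop := ∀ {G : Type u} [Group G] [Finite G] [IsSimpleGroup G] {q r : ℕ} {A : Subgroup G},
  St q r A → FullP q r A → MConn q r A →
  (∀ F C, Mx q r A F → Mx q r A C → ax A F ≠ ax A C → Mx q r F C) → L2c G

/-- (G2) `q = 2`, a triangle with an edge that is not maximal -/
def G2Thm : Prop := ∀ {G : Type u} [Group G] [Finite G] {r : ℕ} {A F C : Subgroup G}, S2 2 r A →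
  Mx 2 r A F → Mx 2 r A C → ax A F ≠ ax A C → ¬ Mx 2 r F C →
  8 ≤ r ∧ (2 * Nat.card (uu 2 r A) = r ∨ (r = 8 ∧ uu 2 r A = ⊥))

/-- (G2B) `q = 2`, three axes -/
def G2bThm : Prop := ∀ {G : Type u} [Group G] [Finite G] [IsSimpleGroup G] {r : ℕ} {A : Subgroup G},
  ¬ IsMulCommutative G → S2 2 r A → MConn 2 r A → 8 ≤ r → 2 * Nat.card (uu 2 r A) = r → False

/-- (ZA) `A` is self-centralizing -/
def ZAThm : Prop := ∀ {G : Type u} [Group G] [Finite G] [IsSimpleGroup G] {q r : ℕ} {A : Subgroup G},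
  ¬ IsMulCommutative G → St q r A → MConn q r A → ZnP q r A → (4 ≤ q ∨ (q = 2 ∧ 4 ≤ r ∧ uu q r A = ⊥)) →
  𝒞(A) ≤ A

/-- (M24) `|A| = 16` with fifteen axes -/
def M24Thm : Prop := ∀ {G : Type u} [Group G] [Finite G] [IsSimpleGroup G] {A : Subgroup G},
  S2 2 8 A → uu 2 8 A = ⊥ → 𝒞(A) ≤ A → L2c G ∨ Spor.IsoM24 G

/-- (IB) `q = r`: axes with a non-trivial intersection -/
def IbThm : Prop := ∀ {G : Type u} [Group G] [Finite G] {q : ℕ} {A F C : Subgroup G}, St q q A → 4 ≤ q →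
  Mx q q A F → Mx q q A C → ax A F ≠ ax A C → ax A F ⊓ ax A C ≠ ⊥ →
  q = 4 ∧ Nat.card (ax A F ⊓ ax A C : Subgroup G) = 2

/-- (IK) `q = r`: the centralizer of an axis -/
def IKThm : Prop := ∀ {G : Type u} [Group G] [Finite G] [IsSimpleGroup G] {q : ℕ} {A : Subgroup G},
  ¬ IsMulCommutative G → St q q A → C1 q A → 4 ≤ q → 𝒞(A) ≤ A → KP q A

/-- (INAT, IEND) `q = r ≥ 4` -/
def IEndThm : Prop := ∀ {G : Type u} [Group G] [Finite G] [IsSimpleGroup G] {q : ℕ} {A : Subgroup G},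
  ¬ IsMulCommutative G → St q q A → C1 q A → 4 ≤ q → 𝒞(A) ≤ A → KP q A →
  L2c G ∨ Spor.IsoM22 G ∨ Spor.IsoM23 G

/-- (F4A) `|A| = 4`: local structure -/
def F4aThm : Prop := ∀ {G : Type u} [Group G] [Finite G] {A F : Subgroup G}, Mx 2 2 A F → C1 2 A → F4S A F

/-- (F4B) `|A| = 4`: the Sylow subgroup -/
def F4bThm : Prop := ∀ {G : Type u} [Group G] [Finite G] [IsSimpleGroup G] {A F : Subgroup G},
  ¬ IsMulCommutative G → Mx 2 2 A F → C1 2 A → F4S A F → IsSylowIn 2 (nn A F ⊔ A) ⊤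

/-- (F4C) `|A| = 4`: identification -/
def F4cThm : Prop := ∀ {G : Type u} [Group G] [Finite G] [IsSimpleGroup G] {A F : Subgroup G},
  ¬ IsMulCommutative G → Mx 2 2 A F → F4S A F → IsSylowIn 2 (nn A F ⊔ A) ⊤ →
  L2c G ∨ IsAlt G 6 ∨ (IsAlt G 7 ∧ ¬ IsPGroup 2 𝒞(A))

/-- the classification in the simple case -/
def MainThm : Prop := ∀ {G : Type u} [Group G] [Finite G] [IsSimpleGroup G] {A : Subgroup G},
  ¬ IsMulCommutative G → W A → A ≠ ⊥ → ((∃ H : Subgroup G, IsStronglyEmbedded H) ∧ ∀ B, ¬ Ed A B) ∨ Concl A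

/-- assembly -/
theorem mainThm_of (se : SEThm.{u}) (ho : HoltP.{u}) (wa : WAThm.{u}) (l2 : Line2Thm.{u}) (l1 : Line1Thm.{u})
    (zn : ZNThm.{u}) (tri : TriThm.{u}) (bad : BadThm.{u}) (mt : MaxtThm.{u}) (on : OnanThm.{u}) (g2 : G2Thm.{u})
    (g2b : G2bThm.{u}) (za : ZAThm.{u}) (m24 : M24Thm.{u}) (ik : IKThm.{u}) (ie : IEndThm.{u}) (fa : F4aThm.{u})
    (fb : F4bThm.{u}) (fc : F4cThm.{u}) : MainThm.{u} := by
  intro G _ _ _ A hG w h1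
  by_cases hc : Conn A; swap
  · refine (ho hG w h1 hc).imp (fun h => ⟨h, fun B e => e.nt (se hG h e.toNb h1 (w.isP.to_le inf_le_left)
      (inf_le_left.trans le_normalizer) inf_le_right)⟩) fun h => .inr (.inr (.inr (.inl h.1)))
  right
  obtain ⟨B, e⟩ : ∃ B, Ed A B := by
    by_contra! hn
    have : A.Normal := normal_iff_top_le.2 fun g _ => cj_eq_iff_mem.1 (by
      rcases (hc _ (Pt.of_cj g A)).cases_head with e | ⟨_, e, -⟩
      exacts [e.symm, (hn _ e).elim])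
    rcases this.eq_bot_or_eq_top with e | e
    exacts [h1 e, hG ⟨⟨fun a b => w.comm (e ▸ mem_top a) (e ▸ mem_top b)⟩⟩]
  obtain ⟨q, r, F, m⟩ := e.exists_mx
  have cov := m.cov_of_simple
  have hq := m.two_le_q
  have q24 : q = 2 ∨ 4 ≤ q := by
    obtain ⟨n, rfl⟩ := m.pow_q
    obtain _ | _ | n := n
    exacts [by omega, .inl rfl, .inr (by rw [pow_add, pow_add]; have := Nat.two_pow_pos n; omega)]
  rcases m.q_le_r.eq_or_lt with rfl | lt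
  · have c := l1 q A
    rcases q24 with rfl | h4
    · have s := fa m c
      exact (fc hG m s (fb hG m c s)).imp_right (.imp_right .inl)
    · obtain ⟨u, z⟩ := zn h4 c.sm c.line
      have s : St q q A := ⟨w, ⟨F, m⟩, cov, c.sm, u⟩
      have hA := za hG s (bad s hc) z (.inl h4)
      exact (ie hG s c h4 hA (ik hG s c h4 hA)).imp_right fun h => .inr (.inr (.inr (h.imp_right .inl)))
  have r4 : 4 ≤ r := by
    obtain ⟨n, rfl⟩ := m.pow_r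
    obtain _ | _ | n := n
    exacts [by omega, by omega, by rw [pow_add, pow_add]; have := Nat.two_pow_pos n; omega]
  obtain ⟨full, sm⟩ := wa lt cov
  obtain ⟨u, z⟩ := zn r4 sm (l2 lt cov full sm)
  have s : S2 q r A := ⟨⟨w, ⟨F, m⟩, cov, sm, u⟩, lt, full, tri lt full u⟩
  have mc := bad s.toSt hc
  by_cases hm : ∀ F C, Mx q r A F → Mx q r A C → ax A F ≠ ax A C → Mx q r F C
  · exact .inl (on s.toSt full mc hm)
  push Not at hm
  obtain ⟨F, C, m1, m2, hne, hm⟩ := hm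
  rcases q24 with rfl | h4; swap
  · exact (hm (mt s h4 m1 m2 hne)).elim
  obtain ⟨h8, h | ⟨rfl, h⟩⟩ := g2 s m1 m2 hne hm
  · exact (g2b hG s mc h8 h).elim
  · exact (m24 s h (za hG s.toSt mc z (.inr ⟨rfl, r4, h⟩))).imp_right fun h =>
      .inr (.inr (.inr (.inr (.inr h))))

end CL.WTI
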